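import Mathlib
import Cfsg.Agent.H190.Start
import Cfsg.Agent.S1035
import Cfsg.Agent.S1059
import Cfsg.Agent.S1061
import Cfsg.Agent.S1062
import Cfsg.Agent.S1063
import Cfsg.Agent.S1064
import Cfsg.Agent.S1065

/-!
helper172, for S5762: `p`-subgroups of exceptional groups are commutative if `p` divides no degree.
-/

set_option autoImplicit false

namespace Cfsg.Agent.H172.SI

open Cfsg.Lie Cfsg.Agent.H190 Cfsg.Agent.ChevalleyStructure.Elts

section sylow

variable {p : ℕ} [Fact p.Prime] {G : Type*} [Group G] [Finite G]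

/-- If `A` has index prime to `p`, every `p`-subgroup is conjugate to a subgroup of `A`. -/
theorem exists_conj_le (A : Subgroup G) (hA : ¬ p ∣ A.index) (Q : Subgroup G) (hQ : IsPGroup p Q) :
    ∃ g : G, ∀ y ∈ Q, g * y * g⁻¹ ∈ A := by
  obtain ⟨P, hP⟩ := hQ.exists_le_sylow
  obtain ⟨S⟩ : Nonempty (Sylow p A) := inferInstance
  have hSp : IsPGroup p ((S : Subgroup A).map A.subtype) := S.isPGroup'.map _
  have hSi : ¬ p ∣ ((S : Subgroup A).map A.subtype).index := by
    rw [Subgroup.index_map_subtype]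
    intro h
    rcases (Nat.Prime.dvd_mul Fact.out).1 h with h1 | h1
    · exact S.not_dvd_index h1
    · exact hA h1
  obtain ⟨g, hg⟩ := MulAction.exists_smul_eq G P (hSp.toSylow hSi)
  refine ⟨g, fun y hy => ?_⟩
  have h1 : g * y * g⁻¹ ∈ (hSp.toSylow hSi : Subgroup G) := by
    rw [← hg, Sylow.smul_def]
    exact (Subgroup.mem_smul_pointwise_iff_exists _ _ _).2 ⟨y, hP hy, by simp [MulAut.smul_def, MulAut.conj_apply]⟩
  have h2 : g * y * g⁻¹ ∈ (S : Subgroup A).map A.subtype := h1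
  obtain ⟨s, -, hs⟩ := h2
  rw [← hs]
  exact s.2

theorem comm_of_index (A : Subgroup G) (hA : ¬ p ∣ A.index) (hc : ∀ a ∈ A, ∀ b ∈ A, a * b = b * a)
    (Q : Subgroup G) (hQ : IsPGroup p Q) : ∀ a ∈ Q, ∀ b ∈ Q, a * b = b * a := by
  obtain ⟨g, hg⟩ := exists_conj_le A hA Q hQ
  intro a ha b hb
  have h := hc _ (hg a ha) _ (hg b hb)
  have h1 : g * (a * b) * g⁻¹ = g * (b * a) * g⁻¹ := by
    calc g * (a * b) * g⁻¹ = (g * a * g⁻¹) * (g * b * g⁻¹) := by group
      _ = (g * b * g⁻¹) * (g * a * g⁻¹) := h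
      _ = _ := by group
  simpa using h1

end sylow

/-- a Chevalley group with its degrees -/
structure Deg (D : ChevalleyDatum) (d : ℕ → ℕ) (N : ℕ) (ds : List ℕ) : Prop where
  mem : InList D
  d0 : ∀ q, d q ≠ 0
  card : ∀ {F : Type} [Field F] [Fintype F], d (Fintype.card F) * Nat.card ↥(D.group F) =
    Fintype.card F ^ N * (ds.map fun k => Fintype.card F ^ k - 1).prod
  tor : ∀ {F : Type} [Field F] [Fintype F], d (Fintype.card F) * Nat.card ↥(D.diagonalSubgroup F) =
    (Fintype.card F - 1) ^ ds.length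

/-- `K ⊇ F` with `p ∣ |K| - 1` -/
theorem exists_ext {p : ℕ} [hp : Fact p.Prime] {F : Type} [Field F] [Fintype F] (hpF : ¬ p ∣ Fintype.card F) :
    ∃ (K : Type) (_ : Field K) (_ : Fintype K) (_ : F →+* K), p ∣ Fintype.card K - 1 := by
  obtain ⟨ℓ, hℓ⟩ := CharP.exists F
  obtain ⟨n, hlp, hn⟩ := FiniteField.card F ℓ
  have : Fact ℓ.Prime := ⟨hlp⟩
  apply field_ext' F ℓ
  intro h
  have h1 := (Nat.prime_dvd_prime_iff_eq hlp hp.out).1 h
  apply hpF
  rw [hn, ← h1]
  exact dvd_pow_self _ n.pos.ne'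

/-- **Commutativity.** -/
theorem Deg.comm {D : ChevalleyDatum} {d : ℕ → ℕ} {N : ℕ} {ds : List ℕ} (h : Deg D d N ds) {p : ℕ} [hp : Fact p.Prime]
    (hds : ∀ k ∈ ds, ¬ p ∣ k) {F : Type} [Field F] [Fintype F] (hpF : ¬ p ∣ Fintype.card F)
    (Q : Subgroup ↥(D.group F)) (hQ : IsPGroup p Q) : ∀ a ∈ Q, ∀ b ∈ Q, a * b = b * a := by
  obtain ⟨K, _, _, f, hK⟩ := exists_ext hpF
  have : Finite (GL D.Idx K) := inferInstance
  have hi : ¬ p ∣ (TG D K).index := not_dvd_index h.mem ds (h.d0 _) h.card h.tor hp.out hK hds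
  intro a ha b hb
  have h1 := comm_of_index (TG D K) hi (fun a ha b hb => (torusData h.mem K).comm a ha b hb)
    (Q.map (groupMap D f)) (hQ.map _) _ (Subgroup.mem_map_of_mem _ ha) _ (Subgroup.mem_map_of_mem _ hb)
  rw [← map_mul, ← map_mul] at h1
  exact groupMap_injective D f h1

theorem deg_G2 : Deg chevG2 (fun _ => 1) 6 [2, 6] where
  mem := by simp [InList]
  d0 := fun _ => one_ne_zero
  card := by
    intro F _ _
    rw [one_mul, Cfsg.Agent.S1059.result (F := F) rfl]
    simp [mul_assoc]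
  tor := by
    intro F _ _
    exact Cfsg.Agent.S1035.result (F := F) rfl (chevG2, 1) (by simp)

theorem deg_F4 : Deg chevF4 (fun _ => 1) 24 [2, 6, 8, 12] where
  mem := by simp [InList]
  d0 := fun _ => one_ne_zero
  card := by
    intro F _ _
    rw [one_mul, Cfsg.Agent.S1062.result (F := F) rfl]
    simp [mul_assoc]
  tor := by
    intro F _ _
    exact Cfsg.Agent.S1035.result (F := F) rfl (chevF4, 1) (by simp)

theorem deg_D4 : Deg chevD4 (fun q => Nat.gcd 2 (q - 1) ^ 2) 12 [2, 4, 4, 6] where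
  mem := by simp [InList]
  d0 := fun _ => pow_ne_zero _ (Nat.gcd_pos_of_pos_left _ (by norm_num)).ne'
  card := by
    intro F _ _
    rw [Cfsg.Agent.S1061.result (F := F) rfl]
    simp [mul_assoc]
  tor := by
    intro F _ _
    exact Cfsg.Agent.S1035.result (F := F) rfl (chevD4, Nat.gcd 2 (Fintype.card F - 1) ^ 2) (by simp)

theorem deg_E6 : Deg chevE6 (fun q => Nat.gcd 3 (q - 1)) 36 [2, 5, 6, 8, 9, 12] where
  mem := by simp [InList]
  d0 := fun _ => (Nat.gcd_pos_of_pos_left _ (by norm_num)).ne'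
  card := by
    intro F _ _
    rw [Cfsg.Agent.S1063.result (F := F) rfl]
    simp [mul_assoc]
  tor := by
    intro F _ _
    exact Cfsg.Agent.S1035.result (F := F) rfl (chevE6, Nat.gcd 3 (Fintype.card F - 1)) (by simp)

theorem deg_E7 : Deg chevE7 (fun q => Nat.gcd 2 (q - 1)) 63 [2, 6, 8, 10, 12, 14, 18] where
  mem := by simp [InList]
  d0 := fun _ => (Nat.gcd_pos_of_pos_left _ (by norm_num)).ne'
  card := by
    intro F _ _
    rw [Cfsg.Agent.S1064.result (F := F) rfl]
    simp [mul_assoc]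
  tor := by
    intro F _ _
    exact Cfsg.Agent.S1035.result (F := F) rfl (chevE7, Nat.gcd 2 (Fintype.card F - 1)) (by simp)

theorem deg_E8 : Deg chevE8 (fun _ => 1) 120 [2, 8, 12, 14, 18, 20, 24, 30] where
  mem := by simp [InList]
  d0 := fun _ => one_ne_zero
  card := by
    intro F _ _
    rw [one_mul, Cfsg.Agent.S1065.result (F := F) rfl]
    simp [mul_assoc]
  tor := by
    intro F _ _
    exact Cfsg.Agent.S1035.result (F := F) rfl (chevE8, 1) (by simp)

end Cfsg.Agent.H172.SI
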