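import Mathlib
import Cfsg.Agent.H903.SylMeet
import Cfsg.Prelude.Def_KGroupFacts

/-!
helper172, for S5762 (exceptional groups in cross characteristic): glue between `Meet`, `Out` and orders.
-/

set_option autoImplicit false

namespace Cfsg.Agent.H172.SI

open Cfsg.Agent.H903.SylMeet

section glue

variable {p : ℕ} [Fact p.Prime] {T : Type*} [Group T] [Finite T] [IsSimpleGroup T]

omit [Fact p.Prime] in
theorem card_mulAut (hT : ¬ IsMulCommutative T) :
    Nat.card (MulAut T) = Nat.card T * Nat.card (Cfsg.Out T) := by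
  have h1 := Subgroup.card_eq_card_quotient_mul_card_subgroup (Cfsg.Inn T)
  have h2 : Nat.card (Cfsg.Inn T) = Nat.card T :=
    (Nat.card_congr (MonoidHom.ofInjective (conj_injective hT)).toEquiv).symm
  rw [h1, h2, mul_comm]

/-- the order of a Sylow subgroup of `Aut T`, as a power -/
theorem card_sylow (hT : ¬ IsMulCommutative T) (P : Sylow p (MulAut T)) :
    Nat.card P = p ^ (padicValNat p (Nat.card T) + padicValNat p (Nat.card (Cfsg.Out T))) := by
  have hO : Nat.card (Cfsg.Out T) ≠ 0 := Nat.card_pos.ne'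
  have hT0 : Nat.card T ≠ 0 := Nat.card_pos.ne'
  rw [P.card_eq_multiplicity, card_mulAut hT, Nat.factorization_def _ (Fact.out : p.Prime),
    padicValNat.mul hT0 hO]

omit [Finite T] [IsSimpleGroup T] in
theorem le_inn [Finite T] {P : Subgroup (MulAut T)} (hP : IsPGroup p P) (h : ¬ p ∣ Nat.card (Cfsg.Out T)) :
    P ≤ Cfsg.Inn T := by
  intro y hy
  rw [← QuotientGroup.eq_one_iff]
  obtain ⟨k, hk⟩ := hP ⟨y, hy⟩
  have hk' : y ^ p ^ k = 1 := by
    have := congrArg Subtype.val hk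
    simpa using this
  have h1 : ((y : MulAut T) : Cfsg.Out T) ^ p ^ k = 1 := by
    rw [← QuotientGroup.mk_pow, hk', QuotientGroup.mk_one]
  have h2 : orderOf ((y : MulAut T) : Cfsg.Out T) ∣ p ^ k := orderOf_dvd_of_pow_eq_one h1
  have h3 : orderOf ((y : MulAut T) : Cfsg.Out T) ∣ Nat.card (Cfsg.Out T) := orderOf_dvd_natCard _
  have h4 : Nat.Coprime (p ^ k) (Nat.card (Cfsg.Out T)) :=
    Nat.Coprime.pow_left _ ((Nat.Prime.coprime_iff_not_dvd Fact.out).2 h)
  have h5 : orderOf ((y : MulAut T) : Cfsg.Out T) = 1 := Nat.eq_one_of_dvd_coprimes h4 h2 h3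
  exact orderOf_eq_one_iff.1 h5

/-- If the `p`-subgroups of `T` are commutative and `p ∤ |Out T|`. -/
theorem meet_of_comm_sub (hT : ¬ IsMulCommutative T) (h : ¬ p ∣ Nat.card (Cfsg.Out T))
    (hc : ∀ Q : Subgroup T, IsPGroup p Q → ∀ a ∈ Q, ∀ b ∈ Q, a * b = b * a) : Meet p T := by
  obtain ⟨P⟩ : Nonempty (Sylow p (MulAut T)) := inferInstance
  refine meet_of_comm hT P fun a ha b hb => ?_
  obtain ⟨s, rfl⟩ := le_inn P.isPGroup' h ha
  obtain ⟨t, rfl⟩ := le_inn P.isPGroup' h hb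
  have h1 := hc ((P : Subgroup (MulAut T)).comap MulAut.conj)
    (P.isPGroup'.comap_of_injective _ (conj_injective hT)) s ha t hb
  rw [← map_mul, ← map_mul, h1]

/-- If `p ∤ |Out T|` it is enough to treat one subgroup of `T` of index prime to `p`. -/
theorem meet_of_inner (hT : ¬ IsMulCommutative T) (h : ¬ p ∣ Nat.card (Cfsg.Out T))
    (R : Subgroup T) (hR : IsPGroup p R) (hi : ¬ p ∣ R.index)
    (hx : ∃ x : T, ∀ y ∈ R, x * y * x⁻¹ ∈ R → y = 1) : Meet p T := by
  have hinj := conj_injective hT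
  refine meet_of_index (R.map MulAut.conj) (hR.map _) ?_ ?_
  · rw [Subgroup.index_map_of_injective _ hinj]
    intro hd
    rcases (Nat.Prime.dvd_mul Fact.out).1 hd with h1 | h1
    · exact hi h1
    · exact h h1
  · obtain ⟨x, hx⟩ := hx
    refine ⟨x, ?_⟩
    rintro _ ⟨r, hr, rfl⟩ hxr
    rw [← map_mul, ← map_inv, ← map_mul] at hxr
    obtain ⟨r', hr', he⟩ := hxr
    have := hinj he
    subst this
    rw [hx r hr hr', map_one]

/-- The numeric criterion. -/
theorem meet_of_num (hp : 5 ≤ p) (hT : ¬ IsMulCommutative T) {m B : ℕ}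
    (hm : ∀ H : Subgroup T, H ≠ ⊤ → m ≤ H.index)
    (hB : p ^ (padicValNat p (Nat.card T) + padicValNat p (Nat.card (Cfsg.Out T))) ≤ B)
    (h : B ^ 2 ≤ 16 * m) (hm0 : 0 < m) : Meet p T := by
  obtain ⟨P⟩ : Nonempty (Sylow p (MulAut T)) := inferInstance
  refine meet_of_card_lt hT hm P ?_
  rw [card_sylow hT P]
  set X := p ^ (padicValNat p (Nat.card T) + padicValNat p (Nat.card (Cfsg.Out T))) with hX
  have hX0 : 0 < X := by rw [hX]; exact pow_pos (Fact.out : p.Prime).pos _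
  have h1 : (X - 1) ^ 2 < X ^ 2 := Nat.pow_lt_pow_left (by omega) (by norm_num)
  have h2 : X ^ 2 ≤ B ^ 2 := Nat.pow_le_pow_left hB 2
  have h3 : 16 ≤ (p - 1) ^ 2 := by
    have : 4 ≤ p - 1 := by omega
    nlinarith
  calc (X - 1) ^ 2 < X ^ 2 := h1
    _ ≤ 16 * m := h2.trans h
    _ ≤ (p - 1) ^ 2 * m := Nat.mul_le_mul_right _ h3

/-- The numeric criterion, squared index bound. -/
theorem meet_of_num_sq (hp : 5 ≤ p) (hT : ¬ IsMulCommutative T) {m B : ℕ}
    (hm : ∀ H : Subgroup T, H ≠ ⊤ → m ≤ H.index ^ 2)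
    (hB : p ^ (padicValNat p (Nat.card T) + padicValNat p (Nat.card (Cfsg.Out T))) ≤ B)
    (h : B ^ 4 ≤ 256 * m) (hm0 : 0 < m) : Meet p T := by
  classical
  -- the least index
  have hnt : ∃ n : ℕ, ∃ H : Subgroup T, H ≠ ⊤ ∧ H.index = n := by
    refine ⟨_, ⊥, ?_, rfl⟩
    intro hbt
    apply hT
    refine ⟨⟨fun a b => ?_⟩⟩
    have ha : a ∈ (⊥ : Subgroup T) := hbt ▸ Subgroup.mem_top a
    have hb : b ∈ (⊥ : Subgroup T) := hbt ▸ Subgroup.mem_top b
    rw [Subgroup.mem_bot.1 ha, Subgroup.mem_bot.1 hb]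
  obtain ⟨H, hH, hHi⟩ := Nat.find_spec hnt
  have hmin : ∀ K : Subgroup T, K ≠ ⊤ → Nat.find hnt ≤ K.index := fun K hK =>
    Nat.find_min' hnt ⟨K, hK, rfl⟩
  have h1 := hm H hH
  rw [hHi] at h1
  refine meet_of_num (m := Nat.find hnt) (B := B) hp hT hmin hB ?_ ?_
  · have h2 : (B ^ 2) ^ 2 ≤ (16 * Nat.find hnt) ^ 2 := by
      calc (B ^ 2) ^ 2 = B ^ 4 := by ring
        _ ≤ 256 * m := h
        _ ≤ 256 * (Nat.find hnt) ^ 2 := Nat.mul_le_mul_left _ h1
        _ = _ := by ring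
    exact (Nat.pow_le_pow_iff_left (by norm_num)).1 h2
  · rcases Nat.eq_zero_or_pos (Nat.find hnt) with h0 | h0
    · rw [h0] at h1
      simp at h1
      omega
    · exact h0

end glue

end Cfsg.Agent.H172.SI
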