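import Mathlib
import Cfsg.Agent.H934.HeisF4G2

/-!
# The amplified index bound for `G₂(q)`, `q` prime to 6

helper172, for S2484 / S5760: `q ^ 8 ≤ 4 |G₂(q) : H| ^ 2` for proper subgroups `H`, `q` prime to 6.
-/

set_option autoImplicit false

namespace Cfsg.Agent.H172.S3G2

open Cfsg.Lie Cfsg.Agent.ChevalleyStructure.Elts Cfsg.Agent.H934.HeisSq Cfsg.Agent.H934.HeisChev
  Cfsg.Agent.H934.HeisData Cfsg.Agent.H934.HeisF4G2 Cfsg.Agent.H934.Burn

universe u

section gen

variable {D : ChevalleyDatum} (hD : InList D) {F : Type u} [Field F]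

/-- the word in the group -/
noncomputable def wd (w : List (ℕ × F)) : ↥(D.group F) := (w.map fun p => xe hD p.1 p.2).prod

theorem coe_wd (w : List (ℕ × F)) : ((wd hD w : ↥(D.group F)) : GL D.Idx F) = wordG hD w := by
  unfold wd wordG
  rw [← Subgroup.coe_subtype, map_list_prod, List.map_map]
  rfl

theorem comm_gen {r s : ℕ} (hr : r < D.nroots) (hs : s < D.nroots) (hrs : s ≠ r) (hneg : s ≠ D.neg r)
    (t u : F) : xe hD s u * xe hD r t = xe hD r t * xe hD s u * wd hD (D.commWord F r s t u) := by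
  have h1 := Cfsg.Agent.S1025.result (F := F) D hD r s hr hs hrs hneg t u
  apply Subtype.ext
  apply Units.ext
  rw [Subgroup.coe_mul, Subgroup.coe_mul, Subgroup.coe_mul, coe_wd, Units.val_mul, Units.val_mul, Units.val_mul,
    coe_wordG]
  exact h1

theorem conj_gen {r s : ℕ} (hr : r < D.nroots) (hs : s < D.nroots) (hrs : s ≠ r) (hneg : s ≠ D.neg r)
    (t u : F) : xe hD r t * xe hD s u * (xe hD r t)⁻¹ = xe hD s u * wd hD (D.commWord F r s (-t) u) := by
  have h := comm_gen hD hr hs hrs hneg (-t) u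
  rw [← xe_neg, mul_assoc, h, xe_neg]
  group

end gen

variable {F : Type u} [Field F]

theorem he_ne (h3 : (3 : F) ≠ 0) (i : Fin 4) : (tabG.e i : F) ≠ 0 := by
  have h : ∀ i, tabG.e i = 1 ∨ tabG.e i = -1 ∨ tabG.e i = 3 ∨ tabG.e i = -3 := by decide
  rcases h i with h | h | h | h <;> rw [h]
  · simp
  · simp
  · exact_mod_cast h3
  · push_cast
    exact neg_ne_zero.2 h3

/-- the coordinates -/
noncomputable abbrev RR (h3 : (3 : F) ≠ 0) : RS ↥(chevG2.group F) F (Fin 4) :=
  tabG.rs hG2 tabG_ok F (he_ne h3)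

theorem prod_eq {Γ ι : Type*} [Group Γ] [Fintype ι] [DecidableEq ι] (R : RS Γ F ι) :
    ∀ l : List (ι × F), ∃ a, (l.map fun p => R.x p.1 p.2).prod =
      R.X (l.map fun p => (Pi.single p.1 p.2 : ι → F)).sum * R.z a := by
  intro l
  induction l with
  | nil => exact ⟨0, by rw [List.map_nil, List.prod_nil, List.map_nil, List.sum_nil, R.X_zero, R.z_zero, one_mul]⟩
  | cons p l ih =>
    obtain ⟨a, ha⟩ := ih
    obtain ⟨b, hb⟩ := R.X_add (Pi.single p.1 p.2) (l.map fun p => (Pi.single p.1 p.2 : ι → F)).sum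
    refine ⟨-b + a, ?_⟩
    rw [List.map_cons, List.prod_cons, List.map_cons, List.sum_cons, ha, hb, R.X_single]
    have h1 : R.z b * R.z (-b + a) = R.z a := by rw [← R.z_add]; congr 1; ring
    rw [mul_assoc _ (R.z b), h1, mul_assoc]

/-- the action -/
def rho (k : Bool × F) (v : Fin 4 → F) : Fin 4 → F :=
  if k.1 then ![v 0 - 3 * k.2 * v 1 + 3 * k.2 ^ 2 * v 2 + k.2 ^ 3 * v 3, v 1 - 2 * k.2 * v 2 - k.2 ^ 2 * v 3,
    v 2 + k.2 * v 3, v 3]
  else ![v 0, v 1 - k.2 * v 0, v 2 + k.2 ^ 2 * v 0 - 2 * k.2 * v 1,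
    v 3 + k.2 ^ 3 * v 0 - 3 * k.2 ^ 2 * v 1 + 3 * k.2 * v 2]

/-- the roots `a`, `-a` -/
def rt (b : Bool) : ℕ := if b then 4 else 7

theorem rt_lt (b : Bool) : rt b < chevG2.nroots := by cases b <;> decide +kernel

theorem y_z (b : Bool) (t a : F) : xe hG2 (rt b) t * xe hG2 11 a = xe hG2 11 a * xe hG2 (rt b) t := by
  cases b
  · exact (comm_nil hG2 (r := 11) (s := 7) (by decide +kernel) (by decide +kernel) (by decide +kernel)
      (by decide +kernel) (by decide +kernel) a t)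
  · exact (comm_nil hG2 (r := 11) (s := 4) (by decide +kernel) (by decide +kernel) (by decide +kernel)
      (by decide +kernel) (by decide +kernel) a t)

theorem commWord_eq {D : ChevalleyDatum} {r s : ℕ} {L : List (ℕ × ℤ × ℕ × ℕ)} (h : D.commTerms r s = L) (t u : F) :
    D.commWord F r s t u = L.map fun c => (c.1, (c.2.1 : F) * (-t) ^ c.2.2.1 * u ^ c.2.2.2) := by
  subst h
  rfl

/-- the action on the generators -/
theorem y_x (h3 : (3 : F) ≠ 0) (k : Bool × F) (i : Fin 4) (u : F) :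
    ∃ a, xe hG2 (rt k.1) k.2 * (RR h3).X (Pi.single i u) * (xe hG2 (rt k.1) k.2)⁻¹ =
      (RR h3).X (rho k (Pi.single i u)) * (RR h3).z a := by
  have key : ∀ (l : List (Fin 4 × F)) (c : F) (w : List (ℕ × F)), wd hG2 w =
      (l.map fun p => (RR h3).x p.1 p.2).prod * (RR h3).z c →
      ((Pi.single i u : Fin 4 → F) + (l.map fun p => (Pi.single p.1 p.2 : Fin 4 → F)).sum = rho k (Pi.single i u)) →
      ∃ a, (RR h3).X (Pi.single i u) * wd hG2 w = (RR h3).X (rho k (Pi.single i u)) * (RR h3).z a := by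
    intro l c w hw hr
    obtain ⟨a, ha⟩ := prod_eq (RR h3) l
    obtain ⟨b, hb⟩ := (RR h3).X_add (Pi.single i u) (l.map fun p => (Pi.single p.1 p.2 : Fin 4 → F)).sum
    refine ⟨-b + (a + c), ?_⟩
    rw [← hr, hw, ha, hb]
    have h1 : (RR h3).z b * (RR h3).z (-b + (a + c)) = (RR h3).z a * (RR h3).z c := by
      rw [← (RR h3).z_add, ← (RR h3).z_add]; congr 1; ring
    rw [mul_assoc _ ((RR h3).z b), h1]
    simp only [mul_assoc]
  have hx : (RR h3).X (Pi.single i u) = xe hG2 (tabG.S i) u := (RR h3).X_single i u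
  obtain ⟨b, t⟩ := k
  have conj : ∀ (hrs : tabG.S i ≠ rt b) (hneg : tabG.S i ≠ chevG2.neg (rt b)),
      xe hG2 (rt b) t * (RR h3).X (Pi.single i u) * (xe hG2 (rt b) t)⁻¹ =
        (RR h3).X (Pi.single i u) * wd hG2 (chevG2.commWord F (rt b) (tabG.S i) (-t) u) := fun hrs hneg => by
    rw [hx]
    exact conj_gen hG2 (rt_lt b) (tabG_ok.S_lt i) hrs hneg t u
  show ∃ a, xe hG2 (rt b) t * (RR h3).X (Pi.single i u) * (xe hG2 (rt b) t)⁻¹ = _
  have hne : ∀ (b : Bool) (i : Fin 4), tabG.S i ≠ rt b ∧ tabG.S i ≠ chevG2.neg (rt b) := by decide +kernel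
  rw [conj (hne b i).1 (hne b i).2]
  have xx : ∀ (j : Fin 4) (s : F), (RR h3).x j s = xe hG2 (tabG.S j) s := fun _ _ => rfl
  have zz : ∀ (s : F), (RR h3).z s = xe hG2 11 s := fun _ => rfl
  cases b
  · fin_cases i
    · refine key [(1, -t * u), (2, t ^ 2 * u), (3, t ^ 3 * u)] (t ^ 3 * u ^ 2) _ ?_ ?_
      · rw [commWord_eq (L := [(8, -1, 1, 1), (9, 1, 2, 1), (10, 1, 3, 1), (11, 1, 3, 2)]) (by decide +kernel)]
        simp [wd, xx, zz, tabG, mul_assoc]
      · ext j
        fin_cases j <;> simp [rho]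
    · refine key [(2, -2 * t * u), (3, -3 * t ^ 2 * u)] (3 * t * u ^ 2) _ ?_ ?_
      · rw [commWord_eq (L := [(9, -2, 1, 1), (10, -3, 2, 1), (11, 3, 1, 2)]) (by decide +kernel)]
        simp [wd, xx, zz, tabG, mul_assoc]
      · ext j
        fin_cases j <;> simp [rho]
    · refine key [(3, 3 * t * u)] 0 _ ?_ ?_
      · rw [commWord_eq (L := [(10, 3, 1, 1)]) (by decide +kernel), (RR h3).z_zero]
        simp [wd, xx, tabG, mul_assoc]
      · ext j
        fin_cases j <;> simp [rho]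
    · refine key [] 0 _ ?_ ?_
      · rw [commWord_eq (L := []) (by decide +kernel), (RR h3).z_zero]
        simp [wd]
      · ext j
        fin_cases j <;> simp [rho]
  · fin_cases i
    · refine key [] 0 _ ?_ ?_
      · rw [commWord_eq (L := []) (by decide +kernel), (RR h3).z_zero]
        simp [wd]
      · ext j
        fin_cases j <;> simp [rho]
    · refine key [(0, -3 * t * u)] 0 _ ?_ ?_
      · rw [commWord_eq (L := [(6, -3, 1, 1)]) (by decide +kernel), (RR h3).z_zero]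
        simp [wd, xx, tabG, mul_assoc]
      · ext j
        fin_cases j <;> simp [rho]
    · refine key [(1, -2 * t * u), (0, 3 * t ^ 2 * u)] (-3 * t * u ^ 2) _ ?_ ?_
      · rw [commWord_eq (L := [(8, -2, 1, 1), (6, 3, 2, 1), (11, -3, 1, 2)]) (by decide +kernel)]
        simp [wd, xx, zz, tabG, mul_assoc]
      · ext j
        fin_cases j <;> simp [rho]
    · refine key [(2, t * u), (1, -t ^ 2 * u), (0, t ^ 3 * u)] (-t ^ 3 * u ^ 2) _ ?_ ?_
      · rw [commWord_eq (L := [(9, 1, 1, 1), (8, -1, 2, 1), (6, 1, 3, 1), (11, -1, 3, 2)]) (by decide +kernel)]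
        simp [wd, xx, zz, tabG, mul_assoc]
      · ext j
        fin_cases j <;> simp [rho]


theorem rho_add (k : Bool × F) (v w : Fin 4 → F) : rho k (v + w) = rho k v + rho k w := by
  obtain ⟨b, t⟩ := k
  cases b
  · ext j
    fin_cases j <;> simp [rho] <;> ring
  · ext j
    fin_cases j <;> simp [rho] <;> ring

theorem rho_zero (k : Bool × F) : rho k 0 = 0 := by
  have h := rho_add k 0 0
  rw [add_zero] at h
  exact (left_eq_add.1 h)

theorem y_X (h3 : (3 : F) ≠ 0) (k : Bool × F) (v : Fin 4 → F) :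
    ∃ a, xe hG2 (rt k.1) k.2 * (RR h3).X v * (xe hG2 (rt k.1) k.2)⁻¹ = (RR h3).X (rho k v) * (RR h3).z a := by
  refine RS.pi_induction (p := fun v => ∃ a, xe hG2 (rt k.1) k.2 * (RR h3).X v * (xe hG2 (rt k.1) k.2)⁻¹ =
    (RR h3).X (rho k v) * (RR h3).z a) ?_ ?_ ?_ v
  · refine ⟨0, ?_⟩
    rw [(RR h3).X_zero, rho_zero, (RR h3).X_zero, (RR h3).z_zero]
    group
  · rintro v w ⟨a, ha⟩ ⟨b, hb⟩
    obtain ⟨c, hc⟩ := (RR h3).X_add v w
    obtain ⟨d, hd⟩ := (RR h3).X_add (rho k v) (rho k w)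
    refine ⟨-d + (a + b + c), ?_⟩
    have hyz : ∀ c, xe hG2 (rt k.1) k.2 * (RR h3).z c = (RR h3).z c * xe hG2 (rt k.1) k.2 := fun c => y_z k.1 k.2 c
    set y := xe (F := F) hG2 (rt k.1) k.2 with hy
    have h1 : (RR h3).z d * (RR h3).z (-d + (a + b + c)) = (RR h3).z a * ((RR h3).z b * (RR h3).z c) := by
      rw [← (RR h3).z_add, ← (RR h3).z_add, ← (RR h3).z_add]; congr 1; ring
    rw [rho_add, hc, hd, mul_assoc _ ((RR h3).z d), h1]
    have h2 : y * ((RR h3).X v * (RR h3).X w * (RR h3).z c) * y⁻¹ =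
        (y * (RR h3).X v * y⁻¹) * (y * (RR h3).X w * y⁻¹) * (RR h3).z c := by
      have h3' : (RR h3).z c * y⁻¹ = y⁻¹ * (RR h3).z c := by
        rw [eq_inv_mul_iff_mul_eq, ← mul_assoc, hyz, mul_inv_cancel_right]
      calc y * ((RR h3).X v * (RR h3).X w * (RR h3).z c) * y⁻¹
          = y * (RR h3).X v * (RR h3).X w * ((RR h3).z c * y⁻¹) := by group
        _ = _ := by rw [h3']; group
    rw [h2, ha, hb]
    have h4 : (RR h3).z a * (RR h3).X (rho k w) = (RR h3).X (rho k w) * (RR h3).z a := ((RR h3).X_z _ _).symm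
    calc (RR h3).X (rho k v) * (RR h3).z a * ((RR h3).X (rho k w) * (RR h3).z b) * (RR h3).z c
        = (RR h3).X (rho k v) * ((RR h3).z a * (RR h3).X (rho k w)) * (RR h3).z b * (RR h3).z c := by group
      _ = _ := by rw [h4]; group
  · intro i u
    exact y_x h3 k i u

/-- **Irreducibility.** -/
theorem irr (h2 : (2 : F) ≠ 0) (h3 : (3 : F) ≠ 0) (W : AddSubgroup (Fin 4 → F))
    (hW : ∀ k : Bool × F, ∀ v ∈ W, rho k v ∈ W) : W = ⊥ ∨ W = ⊤ := by
  have hN : ∀ v ∈ W, ∀ t : F, (![0, -(t * v 0), -(2 * t * v 1), 3 * t * v 2] : Fin 4 → F) ∈ W := by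
    intro v hv
    have hf : ∀ t, rho (false, t) v ∈ W := fun t => hW (false, t) v hv
    -- third difference
    have h3d : ∀ c : F, (![0, 0, 0, c * v 0] : Fin 4 → F) ∈ W := by
      intro c
      set t : F := c / 6 with ht
      have h6 : (6 : F) ≠ 0 := by
        have : (6 : F) = 2 * 3 := by norm_num
        rw [this]
        exact mul_ne_zero h2 h3
      have h := W.sub_mem (W.sub_mem (W.add_mem (W.add_mem (W.add_mem (W.sub_mem (hf (t + 1 + 1)) (hf (t + 1)))
        (hf t)) (hf 1)) (hf 1)) (W.add_mem (hf (t + 1)) (hf (1 + 1)))) hv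
      convert h using 1
      ext j
      fin_cases j
      · simp [rho, Matrix.vecHead, Matrix.vecTail]
      · simp [rho, Matrix.vecHead, Matrix.vecTail]; ring
      · simp [rho, Matrix.vecHead, Matrix.vecTail]; ring
      · simp [rho, Matrix.vecHead, Matrix.vecTail]
        have : c = 6 * t := by rw [ht]; field_simp
        rw [this]; ring
    have h2d : ∀ c : F, (![0, 0, c * v 0, -(3 * c * v 1)] : Fin 4 → F) ∈ W := by
      intro c
      set t : F := c / 2 with ht
      have hc : c = 2 * t := by rw [ht]; field_simp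
      have h := W.sub_mem (W.add_mem (W.sub_mem (W.sub_mem (hf (t + 1)) (hf t)) (hf 1)) hv)
        (h3d (3 * (t ^ 2 + t)))
      convert h using 1
      ext j
      fin_cases j
      · simp [rho, Matrix.vecHead, Matrix.vecTail]
      · simp [rho, Matrix.vecHead, Matrix.vecTail]; ring
      · simp [rho, Matrix.vecHead, Matrix.vecTail]
        rw [hc]; ring
      · simp [rho, Matrix.vecHead, Matrix.vecTail]
        rw [hc]; ring
    intro t
    have h := W.sub_mem (W.sub_mem (W.sub_mem (hf t) hv) (h2d (t ^ 2))) (h3d (t ^ 3))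
    convert h using 1
    ext j
    fin_cases j
    · simp [rho, Matrix.vecHead, Matrix.vecTail]
    · simp [rho, Matrix.vecHead, Matrix.vecTail]
    · simp [rho, Matrix.vecHead, Matrix.vecTail]; ring
    · simp [rho, Matrix.vecHead, Matrix.vecTail]; ring
  have hN' : ∀ v ∈ W, ∀ t : F, (![-(3 * t * v 1), -(2 * t * v 2), t * v 3, 0] : Fin 4 → F) ∈ W := by
    intro v hv
    have hf : ∀ t, rho (true, t) v ∈ W := fun t => hW (true, t) v hv
    -- third difference
    have h3d : ∀ c : F, (![c * v 3, 0, 0, 0] : Fin 4 → F) ∈ W := by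
      intro c
      set t : F := c / 6 with ht
      have h6 : (6 : F) ≠ 0 := by
        have : (6 : F) = 2 * 3 := by norm_num
        rw [this]
        exact mul_ne_zero h2 h3
      have h := W.sub_mem (W.sub_mem (W.add_mem (W.add_mem (W.add_mem (W.sub_mem (hf (t + 1 + 1)) (hf (t + 1)))
        (hf t)) (hf 1)) (hf 1)) (W.add_mem (hf (t + 1)) (hf (1 + 1)))) hv
      convert h using 1
      ext j
      fin_cases j
      · simp [rho, Matrix.vecHead, Matrix.vecTail]
        have : c = 6 * t := by rw [ht]; field_simp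
        rw [this]; ring
      · simp [rho, Matrix.vecHead, Matrix.vecTail]; ring
      · simp [rho, Matrix.vecHead, Matrix.vecTail]; ring
      · simp [rho, Matrix.vecHead, Matrix.vecTail]
    have h2d : ∀ c : F, (![3 * c * v 2, -(c * v 3), 0, 0] : Fin 4 → F) ∈ W := by
      intro c
      set t : F := c / 2 with ht
      have hc : c = 2 * t := by rw [ht]; field_simp
      have h := W.sub_mem (W.add_mem (W.sub_mem (W.sub_mem (hf (t + 1)) (hf t)) (hf 1)) hv)
        (h3d (3 * (t ^ 2 + t)))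
      convert h using 1
      ext j
      fin_cases j
      · simp [rho, Matrix.vecHead, Matrix.vecTail]
        rw [hc]; ring
      · simp [rho, Matrix.vecHead, Matrix.vecTail]
        rw [hc]; ring
      · simp [rho, Matrix.vecHead, Matrix.vecTail]; ring
      · simp [rho, Matrix.vecHead, Matrix.vecTail]
    intro t
    have h := W.sub_mem (W.sub_mem (W.sub_mem (hf t) hv) (h2d (t ^ 2))) (h3d (t ^ 3))
    convert h using 1
    ext j
    fin_cases j
    · simp [rho, Matrix.vecHead, Matrix.vecTail]; ring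
    · simp [rho, Matrix.vecHead, Matrix.vecTail]; ring
    · simp [rho, Matrix.vecHead, Matrix.vecTail]
    · simp [rho, Matrix.vecHead, Matrix.vecTail]
  by_cases hbot : W = ⊥
  · exact Or.inl hbot
  right
  obtain ⟨w, hv, hv0'⟩ : ∃ w ∈ W, w ≠ 0 := by
    by_contra hcon
    push Not at hcon
    exact hbot ((AddSubgroup.eq_bot_iff_forall W).2 hcon)
  -- the last coordinate
  have h3c : ∀ c : F, (![0, 0, 0, c] : Fin 4 → F) ∈ W := by
    have step3 : ∀ w ∈ W, w 2 ≠ 0 → w 0 = 0 → w 1 = 0 → ∀ c : F, (![0, 0, 0, c] : Fin 4 → F) ∈ W := by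
      intro w hw h2w h0 h1 c
      have h := hN w hw (c / (3 * w 2))
      rw [h0, h1] at h
      convert h using 1
      ext j
      fin_cases j
      · simp
      · simp
      · simp
      · simp
        field_simp
    have step2 : ∀ w ∈ W, w 1 ≠ 0 → w 0 = 0 → ∀ c : F, (![0, 0, 0, c] : Fin 4 → F) ∈ W := by
      intro w hw h1w h0
      refine step3 _ (hN w hw 1) ?_ ?_ ?_
      · simp [h2, h1w]
      · simp
      · simp [h0]
    by_cases h0 : w 0 = 0
    · by_cases h1 : w 1 = 0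
      · by_cases h2w : w 2 = 0
        · have h3w : w 3 ≠ 0 := by
            intro h3w
            apply hv0'
            ext j
            fin_cases j
            · exact h0
            · exact h1
            · exact h2w
            · exact h3w
          refine step3 _ (hN' w hv 1) ?_ ?_ ?_
          · simp [h3w]
          · simp [h1]
          · simp [h2w]
        · exact step3 w hv h2w h0 h1
      · exact step2 w hv h1 h0
    · refine step2 _ (hN w hv 1) ?_ ?_
      · simp [h0]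
      · simp
  have h2c : ∀ c : F, (![0, 0, c, 0] : Fin 4 → F) ∈ W := by
    intro c
    have h := hN' _ (h3c c) 1
    convert h using 1
    ext j
    fin_cases j <;> simp
  have h1c : ∀ c : F, (![0, c, 0, 0] : Fin 4 → F) ∈ W := by
    intro c
    have h := hN' _ (h2c (-(c / 2))) 1
    convert h using 1
    ext j
    fin_cases j <;> simp
    field_simp
  have h0c : ∀ c : F, (![c, 0, 0, 0] : Fin 4 → F) ∈ W := by
    intro c
    have h := hN' _ (h1c (-(c / 3))) 1
    convert h using 1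
    ext j
    fin_cases j <;> simp
    field_simp
  rw [eq_top_iff]
  intro u _
  have h := W.add_mem (W.add_mem (W.add_mem (h0c (u 0)) (h1c (u 1))) (h2c (u 2))) (h3c (u 3))
  convert h using 1
  ext j
  fin_cases j <;> simp

/-- The coordinates of `q ^ (1 + 4) : SL₂(q)`. -/
noncomputable def DD (h2 : (2 : F) ≠ 0) (h3 : (3 : F) ≠ 0) : Data ↥(chevG2.group F) (Fin 4 → F) F (Bool × F) where
  X := (RR h3).X
  z := (RR h3).z
  om := (RR h3).om
  y := fun k => xe hG2 (rt k.1) k.2
  rho := rho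
  z_add := (RR h3).z_add
  z_inj := (RR h3).z_inj
  X_add := (RR h3).X_add
  X_z := (RR h3).X_z
  y_z := fun k a => y_z k.1 k.2 a
  comm := (RR h3).comm
  special := fun _ hv a => (RR h3).special hv a
  y_X := y_X h3
  irr := irr h2 h3

theorem neg_rt (b : Bool) : chevG2.neg (rt b) = rt (!b) := by cases b <;> decide +kernel

/-- Overgroups of `Q` in `P`. -/
theorem index_ge [Fintype F] (h2 : (2 : F) ≠ 0) (h3 : (3 : F) ≠ 0) (M : Subgroup (DD h2 h3).Pg)
    (hQ : (DD h2 h3).QQ ≤ M) (hM : M ≠ ⊤) : Fintype.card F ≤ 2 * M.index := by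
  classical
  have : Finite (GL chevG2.Idx F) := inferInstance
  obtain ⟨⟨β, t0⟩, hκ⟩ := (DD h2 h3).exists_not_mem hQ hM
  -- the homomorphism of `SL₂`
  obtain ⟨φ, hφ1, hφ2⟩ := Cfsg.Agent.S1030.result (F := F) chevG2 hG2 (rt β) (rt_lt β)
  have hrange : ∀ g, ∃ g' : (DD h2 h3).Pg, ((g' : ↥(chevG2.group F)) : GL chevG2.Idx F) = φ g := by
    intro g
    have h1 : φ.range ≤ ((DD h2 h3).Pg.map (chevG2.group F).subtype) := by
      rw [hφ1, sup_le_iff]
      constructor
      · intro x hx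
        obtain ⟨t, rfl⟩ := (mem_rootSubgroup_iff hG2 _ _).1 hx
        exact ⟨xe hG2 (rt β) t, (DD h2 h3).y_mem (β, t), rfl⟩
      · intro x hx
        obtain ⟨t, rfl⟩ := (mem_rootSubgroup_iff hG2 _ _).1 hx
        rw [neg_rt β]
        exact ⟨xe hG2 (rt (!β)) t, (DD h2 h3).y_mem (!β, t), rfl⟩
    obtain ⟨x, hx, hxg⟩ := h1 ⟨g, rfl⟩
    exact ⟨⟨x, hx⟩, hxg⟩
  let x : F → (DD h2 h3).Pg := fun t => ⟨(DD h2 h3).y (β, t), (DD h2 h3).y_mem (β, t)⟩
  have hadd : ∀ s t, x (s + t) = x s * x t := fun s t => Subtype.ext (xe_add hG2 _ s t)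
  have hup : ∀ t : F, φ (up t) = ((x t : ↥(chevG2.group F)) : GL chevG2.Idx F) :=
    fun t => Units.ext ((hφ2 _ t).1 rfl)
  have hconj : ∀ c : F, c ≠ 0 → ∀ t, ∃ h : (DD h2 h3).Pg, h * x t * h⁻¹ = x (c ^ 2 * t) := by
    intro c hc t
    obtain ⟨h, hh⟩ := hrange (dg c hc)
    refine ⟨h, ?_⟩
    rw [mul_inv_eq_iff_eq_mul]
    apply Subtype.ext
    apply Subtype.ext
    show ((h : ↥(chevG2.group F)) : GL chevG2.Idx F) * ((x t : ↥(chevG2.group F)) : GL chevG2.Idx F) =
      ((x (c ^ 2 * t) : ↥(chevG2.group F)) : GL chevG2.Idx F) * ((h : ↥(chevG2.group F)) : GL chevG2.Idx F)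
    rw [hh, ← hup, ← hup, ← map_mul, ← map_mul, dg_up]
  have h1 := Cfsg.Agent.H934.BurnSq.card_le_two_mul (Ω := (DD h2 h3).Pg ⧸ M) x hadd hconj
    ⟨t0, ((1 : (DD h2 h3).Pg) : (DD h2 h3).Pg ⧸ M), fun h => by
      have h2' : ((x t0 * 1 : (DD h2 h3).Pg) : (DD h2 h3).Pg ⧸ M) =
        ((1 : (DD h2 h3).Pg) : (DD h2 h3).Pg ⧸ M) := h
      apply hκ
      have h3' := QuotientGroup.eq.1 h2'.symm
      rwa [inv_one, one_mul, mul_one] at h3'⟩
  exact h1

/-- **The bound for `G₂(q)`, `q` prime to 6.** -/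
theorem pow_eight_le [Fintype F] (h2 : (2 : F) ≠ 0) (h3 : (3 : F) ≠ 0) (hs : IsSimpleGroup ↥(chevG2.group F))
    (H : Subgroup ↥(chevG2.group F)) (hH : H ≠ ⊤) : Fintype.card F ^ 8 ≤ 4 * H.index ^ 2 := by
  classical
  have : Finite (GL chevG2.Idx F) := inferInstance
  set m := (Fintype.card F + 1) / 2 with hm
  obtain ⟨c, -, -, h⟩ := (DD (F := F) h2 h3).index_bound (MonoidHom.id _) hH (a0 := 1)
    (fun a b ha hb => z_isConj0 hG2 tabG_ok.th_lt tabG_ok.p_lt tabG_ok.p_th a b ha hb)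
    (fun h => by
      have h1 : xe hG2 tabG.th (1 : F) = 1 := h
      exact one_ne_zero (xe_eq_one hG2 tabG_ok.th_lt h1)) m (fun M hQ hM => by
      have := index_ge h2 h3 M hQ hM
      omega)
  rw [Nat.card_fun, Nat.card_eq_fintype_card (α := F), Nat.card_eq_fintype_card (α := Fin 4), Fintype.card_fin] at h
  have hle : H.index - c ≤ H.index := Nat.sub_le _ _
  have hq : 1 ≤ Fintype.card F := Fintype.card_pos
  rcases h with h | h
  · have h1 : Fintype.card F ^ 5 ≤ H.index := by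
      calc Fintype.card F ^ 5 = Fintype.card F ^ 4 * Fintype.card F := by ring
        _ ≤ _ := h.trans hle
    calc Fintype.card F ^ 8 ≤ Fintype.card F ^ 10 := Nat.pow_le_pow_right hq (by norm_num)
      _ = (Fintype.card F ^ 5) ^ 2 := by ring
      _ ≤ H.index ^ 2 := Nat.pow_le_pow_left h1 2
      _ ≤ _ := by omega
  · have h1 : Fintype.card F ≤ 2 * m := by omega
    calc Fintype.card F ^ 8 = (Fintype.card F) ^ 2 * Fintype.card F ^ 6 := by ring
      _ ≤ (2 * m) ^ 2 * Fintype.card F ^ 6 := Nat.mul_le_mul_right _ (Nat.pow_le_pow_left h1 2)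
      _ = 4 * (m ^ 2 * (Fintype.card F * (Fintype.card F ^ 4 * Fintype.card F))) := by ring
      _ ≤ 4 * (H.index - c) ^ 2 := Nat.mul_le_mul_left _ h
      _ ≤ _ := Nat.mul_le_mul_left _ (Nat.pow_le_pow_left hle 2)

end Cfsg.Agent.H172.S3G2
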