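import Mathlib

/-!
helper172, for S5762: `p`-parts of products of `q ^ k - 1`, and numerical estimates.
-/

set_option autoImplicit false

namespace Cfsg.Agent.H172.SI

section vp

variable {p : ℕ} [hp : Fact p.Prime]

theorem natCast_ne_zero {q : ℕ} (hq : ¬ p ∣ q) : (q : ZMod p) ≠ 0 := by
  intro h
  exact hq ((CharP.cast_eq_zero_iff (ZMod p) p q).1 h)

theorem dvd_iff_order {q k : ℕ} (hq1 : 1 ≤ q) : p ∣ q ^ k - 1 ↔ orderOf (q : ZMod p) ∣ k := by
  have h1 : 1 ≤ q ^ k := Nat.one_le_pow _ _ hq1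
  rw [← CharP.cast_eq_zero_iff (ZMod p) p, Nat.cast_sub h1, sub_eq_zero, Nat.cast_pow, Nat.cast_one,
    orderOf_dvd_iff_pow_eq_one]

theorem order_pos {q : ℕ} (hq : ¬ p ∣ q) : 0 < orderOf (q : ZMod p) := by
  apply Nat.pos_of_dvd_of_pos (ZMod.orderOf_dvd_card_sub_one (natCast_ne_zero hq))
  have := hp.out.two_le
  omega

theorem order_coprime {q : ℕ} (hq : ¬ p ∣ q) : Nat.Coprime p (orderOf (q : ZMod p)) := by
  rw [hp.out.coprime_iff_not_dvd]
  intro h
  have h1 := h.trans (ZMod.orderOf_dvd_card_sub_one (natCast_ne_zero hq))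
  have h2 := hp.out.two_le
  have h3 := Nat.le_of_dvd (by omega) h1
  omega

/-- lifting the exponent -/
theorem v_pow (hp2 : Odd p) {q k : ℕ} (hq : ¬ p ∣ q) (hq2 : 2 ≤ q) (hk : 0 < k) :
    padicValNat p (q ^ k - 1) =
      if orderOf (q : ZMod p) ∣ k then padicValNat p (q ^ orderOf (q : ZMod p) - 1) + padicValNat p k else 0 := by
  split_ifs with h
  · obtain ⟨j, rfl⟩ := h
    set e := orderOf (q : ZMod p) with he
    have he0 : 0 < e := order_pos hq
    have hj : j ≠ 0 := by rintro rfl; simp at hk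
    have h1 : p ∣ q ^ e - 1 := (dvd_iff_order (by omega)).2 dvd_rfl
    have h2 : ¬ p ∣ q ^ e := fun hh => hq (hp.out.dvd_of_dvd_pow hh)
    have h3 := padicValNat.pow_sub_pow (p := p) (x := q ^ e) (y := 1) hp2
      (Nat.one_lt_pow he0.ne' (by omega)) h1 h2 hj
    rw [one_pow, ← pow_mul] at h3
    have h4 : padicValNat p (e * j) = padicValNat p j := by
      rw [padicValNat.mul he0.ne' hj]
      have : padicValNat p e = 0 := padicValNat.eq_zero_of_not_dvd
        ((hp.out.coprime_iff_not_dvd).1 (order_coprime hq))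
      rw [this, zero_add]
    rw [h3, h4]
  · apply padicValNat.eq_zero_of_not_dvd
    rwa [dvd_iff_order (by omega)]

/-- the case `q = q₁ ^ s`, `s` a power of `p` -/
theorem v_pow' (hp2 : Odd p) {q k j : ℕ} (hq : ¬ p ∣ q) (hq2 : 2 ≤ q) (hk : 0 < k) :
    padicValNat p ((q ^ p ^ j) ^ k - 1) =
      if orderOf (q : ZMod p) ∣ k then
        padicValNat p (q ^ orderOf (q : ZMod p) - 1) + j + padicValNat p k else 0 := by
  have hpp : 0 < p ^ j := pow_pos hp.out.pos _
  rw [← pow_mul, v_pow hp2 hq hq2 (Nat.mul_pos hpp hk)]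
  have h1 : orderOf (q : ZMod p) ∣ p ^ j * k ↔ orderOf (q : ZMod p) ∣ k :=
    Nat.Coprime.dvd_mul_left (Nat.Coprime.pow_right j (order_coprime hq).symm)
  have h2 : padicValNat p (p ^ j * k) = j + padicValNat p k := by
    rw [padicValNat.mul hpp.ne' hk.ne', padicValNat.prime_pow]
  simp only [h1, h2, add_assoc]

/-- the cyclotomic bound -/
theorem pow_v_le {q : ℕ} (hq : ¬ p ∣ q) (hq2 : 2 ≤ q) :
    p ^ padicValNat p (q ^ orderOf (q : ZMod p) - 1) ≤ (q + 1) ^ Nat.totient (orderOf (q : ZMod p)) := by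
  set e := orderOf (q : ZMod p) with he
  have he0 : 0 < e := order_pos hq
  have hpow : 1 ≤ q ^ e := Nat.one_le_pow _ _ (by omega)
  have hd : ((p ^ padicValNat p (q ^ e - 1) : ℕ) : ℤ) ∣ (Polynomial.cyclotomic e ℤ).eval (q : ℤ) := by
    have h1 : ((p ^ padicValNat p (q ^ e - 1) : ℕ) : ℤ) ∣ (q : ℤ) ^ e - 1 := by
      have : ((q ^ e - 1 : ℕ) : ℤ) = (q : ℤ) ^ e - 1 := by
        rw [Nat.cast_sub hpow]; simp
      rw [← this]
      exact_mod_cast pow_padicValNat_dvd
    have h2 : (q : ℤ) ^ e - 1 = ∏ d ∈ e.divisors, (Polynomial.cyclotomic d ℤ).eval (q : ℤ) := by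
      rw [← Polynomial.eval_prod, Polynomial.prod_cyclotomic_eq_X_pow_sub_one he0]
      simp
    rw [h2, ← Finset.mul_prod_erase _ _ (Nat.mem_divisors_self e he0.ne')] at h1
    refine IsCoprime.dvd_of_dvd_mul_right ?_ h1
    rw [Nat.cast_pow]
    apply IsCoprime.pow_left
    apply IsCoprime.prod_right
    intro d hd
    rw [Finset.mem_erase, Nat.mem_divisors] at hd
    rw [Int.isCoprime_iff_gcd_eq_one, Int.gcd_comm]
    have hpi : Prime (p : ℤ) := Nat.prime_iff_prime_int.1 hp.out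
    have : ¬ (p : ℤ) ∣ (Polynomial.cyclotomic d ℤ).eval (q : ℤ) := by
      intro hdd
      have h3 : (Polynomial.cyclotomic d ℤ).eval (q : ℤ) ∣ (q : ℤ) ^ d - 1 := by
        have := Polynomial.cyclotomic.dvd_X_pow_sub_one d ℤ
        have h4 := Polynomial.eval_dvd (x := (q : ℤ)) this
        simpa using h4
      have h5 : (p : ℤ) ∣ ((q ^ d - 1 : ℕ) : ℤ) := by
        rw [Nat.cast_sub (Nat.one_le_pow _ _ (by omega))]
        simpa using hdd.trans h3
      have h6 : p ∣ q ^ d - 1 := by exact_mod_cast h5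
      rw [dvd_iff_order (by omega)] at h6
      exact hd.1 (Nat.dvd_antisymm hd.2.1 h6)
    rw [Int.gcd_comm]
    exact Int.isCoprime_iff_gcd_eq_one.1 ((Irreducible.coprime_iff_not_dvd hpi.irreducible).2 this)
  have hpos : 0 < (Polynomial.cyclotomic e ℤ).eval (q : ℤ) :=
    Polynomial.cyclotomic_pos' e (by exact_mod_cast (by omega : 1 < q))
  have hle := Int.le_of_dvd hpos hd
  have hle2 : (Polynomial.cyclotomic e ℤ).eval (q : ℤ) ≤ ((q + 1) ^ Nat.totient e : ℕ) := by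
    rcases Nat.lt_or_ge e 3 with h | h
    · interval_cases e
      · simp [Polynomial.cyclotomic_one]
        linarith
      · simp [Polynomial.cyclotomic_two]
    · have h1 := Polynomial.cyclotomic_eval_lt_add_one_pow_totient (n := e) (q := (q : ℝ)) h
        (by exact_mod_cast (by omega : 1 < q))
      have h2 : ((Polynomial.cyclotomic e ℝ).eval (q : ℝ)) = (((Polynomial.cyclotomic e ℤ).eval (q : ℤ) : ℤ) : ℝ) := by
        rw [← Polynomial.map_cyclotomic_int e ℝ]
        have := Polynomial.eval_intCast_map (Int.castRingHom ℝ) (Polynomial.cyclotomic e ℤ) (q : ℤ)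
        simpa using this
      rw [h2] at h1
      have h3 : (((Polynomial.cyclotomic e ℤ).eval (q : ℤ) : ℤ) : ℝ) < (((q + 1) ^ Nat.totient e : ℕ) : ℝ) := by
        push_cast
        exact h1
      have h4 : ((Polynomial.cyclotomic e ℤ).eval (q : ℤ)) < (((q + 1) ^ Nat.totient e : ℕ) : ℤ) := by
        exact_mod_cast h3
      exact h4.le
  exact_mod_cast hle.trans hle2

/-- the number of multiples of `e` in the list of degrees -/
def nm (e : ℕ) (ds : List ℕ) : ℕ := ds.countP fun k => decide (e ∣ k)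

/-- the `p`-part of the product of the multiples of `e` -/
def wt (p e : ℕ) : List ℕ → ℕ
  | [] => 0
  | k :: ds => (if e ∣ k then padicValNat p k else 0) + wt p e ds

/-- the product of `q ^ k - 1` -/
def pr (q : ℕ) (ds : List ℕ) : ℕ := (ds.map fun k => q ^ k - 1).prod

theorem pr_ne_zero {q : ℕ} (hq : 2 ≤ q) {ds : List ℕ} (h : ∀ k ∈ ds, 0 < k) : pr q ds ≠ 0 := by
  unfold pr
  refine List.prod_ne_zero ?_
  intro h0
  obtain ⟨k, hk, hk0⟩ := List.mem_map.1 h0
  have h1 : 1 < q ^ k := Nat.one_lt_pow (h k hk).ne' (by omega)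
  omega

/-- **The exact valuation.** -/
theorem v_pr (hp2 : Odd p) {q j : ℕ} (hq : ¬ p ∣ q) (hq2 : 2 ≤ q) :
    ∀ ds : List ℕ, (∀ k ∈ ds, 0 < k) → padicValNat p (pr (q ^ p ^ j) ds) =
      (padicValNat p (q ^ orderOf (q : ZMod p) - 1) + j) * nm (orderOf (q : ZMod p)) ds +
        wt p (orderOf (q : ZMod p)) ds := by
  have hqj : 2 ≤ q ^ p ^ j := hq2.trans (Nat.le_self_pow (pow_pos hp.out.pos _).ne' _)
  intro ds
  induction ds with
  | nil => intro _; simp [pr, nm, wt]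
  | cons k ds ih =>
    intro h
    have hk := h k (by simp)
    have hds : ∀ k ∈ ds, 0 < k := fun k hk => h k (by simp [hk])
    have h1 : pr (q ^ p ^ j) (k :: ds) = ((q ^ p ^ j) ^ k - 1) * pr (q ^ p ^ j) ds := by simp [pr]
    have h2 : (q ^ p ^ j) ^ k - 1 ≠ 0 := by
      have : 1 < (q ^ p ^ j) ^ k := Nat.one_lt_pow hk.ne' (by omega)
      omega
    rw [h1, padicValNat.mul h2 (pr_ne_zero hqj hds), ih hds, v_pow' hp2 hq hq2 hk, nm, nm, List.countP_cons, wt]
    by_cases he : orderOf (q : ZMod p) ∣ k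
    · simp only [he, if_true, decide_true]
      ring
    · simp only [he, if_false, decide_false]
      simp

/-- **The bound.** -/
theorem pow_v_pr_le (hp2 : Odd p) {q j : ℕ} (hq : ¬ p ∣ q) (hq2 : 2 ≤ q) (ds : List ℕ) (h : ∀ k ∈ ds, 0 < k) :
    p ^ padicValNat p (pr (q ^ p ^ j) ds) ≤
      (p ^ j * (q + 1) ^ Nat.totient (orderOf (q : ZMod p))) ^ nm (orderOf (q : ZMod p)) ds *
        p ^ wt p (orderOf (q : ZMod p)) ds := by
  rw [v_pr hp2 hq hq2 ds h, pow_add, pow_mul, pow_add]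
  refine Nat.mul_le_mul_right _ (Nat.pow_le_pow_left ?_ _)
  rw [mul_comm]
  exact Nat.mul_le_mul_left _ (pow_v_le hq hq2)

theorem wt_le (e : ℕ) : ∀ ds : List ℕ, (∀ k ∈ ds, 0 < k) → wt p e ds ≤ padicValNat p ds.prod := by
  intro ds
  induction ds with
  | nil => intro _; simp [wt]
  | cons k ds ih =>
    intro h
    have hds : ∀ k ∈ ds, 0 < k := fun k hk => h k (by simp [hk])
    have h0 : ds.prod ≠ 0 := by
      refine List.prod_ne_zero ?_
      intro h0
      exact lt_irrefl 0 (hds 0 h0)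
    rw [wt, List.prod_cons, padicValNat.mul (h k (by simp)).ne' h0]
    have := ih hds
    split_ifs <;> omega

theorem nm_le (e : ℕ) (ds : List ℕ) : nm e ds ≤ ds.length := List.countP_le_length

/-- the `p`-part is at most the `{2,3}'`-part -/
theorem pow_v_le_of {a b c n : ℕ} (hp5 : 5 ≤ p) (hn : n = 2 ^ a * 3 ^ b * c) (hc : 0 < c) :
    p ^ padicValNat p n ≤ c := by
  have h2 : padicValNat p (2 ^ a) = 0 := by
    apply padicValNat.eq_zero_of_not_dvd
    intro h
    have := (Nat.prime_dvd_prime_iff_eq hp.out Nat.prime_two).1 (hp.out.dvd_of_dvd_pow h)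
    omega
  have h3 : padicValNat p (3 ^ b) = 0 := by
    apply padicValNat.eq_zero_of_not_dvd
    intro h
    have := (Nat.prime_dvd_prime_iff_eq hp.out Nat.prime_three).1 (hp.out.dvd_of_dvd_pow h)
    omega
  rw [hn, padicValNat.mul (by positivity) hc.ne', padicValNat.mul (by positivity) (by positivity), h2, h3,
    zero_add, zero_add]
  exact Nat.le_of_dvd hc pow_padicValNat_dvd

end vp

/-! ### numerical estimates -/

/-- `C s ^ A (q + 1) ^ B < D q ^ (M s)` for all `s ≥ s₀`, `q ≥ b`. -/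
theorem num_ineq {C A B M D s₀ b : ℕ} (hb : 1 ≤ b) (hs₀ : 0 < s₀)
    (hB : B ≤ M * s₀) (h1 : C * s₀ ^ A * (b + 1) ^ B < D * b ^ (M * s₀))
    (h2 : (s₀ + 1) ^ A ≤ b ^ M * s₀ ^ A) {s q : ℕ} (hs : s₀ ≤ s) (hq : b ≤ q) :
    C * s ^ A * (q + 1) ^ B < D * q ^ (M * s) := by
  induction s, hs using Nat.le_induction with
  | base =>
    -- `(q + 1) b ≤ (b + 1) q`
    have h3 : ((q + 1) * b) ^ B ≤ ((b + 1) * q) ^ B := Nat.pow_le_pow_left (by nlinarith) B
    have h4 : C * s₀ ^ A * (q + 1) ^ B * b ^ B ≤ C * s₀ ^ A * (b + 1) ^ B * q ^ B := by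
      calc C * s₀ ^ A * (q + 1) ^ B * b ^ B = C * s₀ ^ A * ((q + 1) * b) ^ B := by rw [mul_pow]; ring
        _ ≤ C * s₀ ^ A * ((b + 1) * q) ^ B := Nat.mul_le_mul_left _ h3
        _ = _ := by rw [mul_pow]; ring
    have hq0 : 0 < q ^ B := pow_pos (by omega) _
    have hb0 : 0 < b ^ B := pow_pos (by omega) _
    have h5 : C * s₀ ^ A * (b + 1) ^ B * q ^ B < D * b ^ (M * s₀) * q ^ B := Nat.mul_lt_mul_of_pos_right h1 hq0
    have h6 : D * b ^ (M * s₀) * q ^ B ≤ D * q ^ (M * s₀) * b ^ B := by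
      have h7 : b ^ (M * s₀) * q ^ B ≤ q ^ (M * s₀) * b ^ B := by
        have e1 : b ^ (M * s₀) = b ^ (M * s₀ - B) * b ^ B := by rw [← pow_add]; congr 1; omega
        have e2 : q ^ (M * s₀) = q ^ (M * s₀ - B) * q ^ B := by rw [← pow_add]; congr 1; omega
        rw [e1, e2]
        have := Nat.pow_le_pow_left hq (M * s₀ - B)
        calc b ^ (M * s₀ - B) * b ^ B * q ^ B ≤ q ^ (M * s₀ - B) * b ^ B * q ^ B :=
              Nat.mul_le_mul_right _ (Nat.mul_le_mul_right _ this)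
          _ = _ := by ring
      calc D * b ^ (M * s₀) * q ^ B = D * (b ^ (M * s₀) * q ^ B) := by ring
        _ ≤ D * (q ^ (M * s₀) * b ^ B) := Nat.mul_le_mul_left _ h7
        _ = _ := by ring
    exact Nat.lt_of_mul_lt_mul_right (lt_of_le_of_lt h4 (lt_of_lt_of_le h5 h6))
  | succ s hs ih =>
    -- `(s + 1) ^ A s₀ ^ A ≤ (s₀ + 1) ^ A s ^ A`
    have h3 : ((s + 1) * s₀) ^ A ≤ ((s₀ + 1) * s) ^ A := Nat.pow_le_pow_left (by nlinarith) A
    rw [mul_pow, mul_pow] at h3
    have h4 : (s + 1) ^ A * s₀ ^ A ≤ (b ^ M * s ^ A) * s₀ ^ A := by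
      calc (s + 1) ^ A * s₀ ^ A ≤ (s₀ + 1) ^ A * s ^ A := h3
        _ ≤ (b ^ M * s₀ ^ A) * s ^ A := Nat.mul_le_mul_right _ h2
        _ = _ := by ring
    have h5 : (s + 1) ^ A ≤ b ^ M * s ^ A := Nat.le_of_mul_le_mul_right h4 (pow_pos hs₀ _)
    have h6 : b ^ M ≤ q ^ M := Nat.pow_le_pow_left hq M
    calc C * (s + 1) ^ A * (q + 1) ^ B ≤ C * (b ^ M * s ^ A) * (q + 1) ^ B :=
          Nat.mul_le_mul_right _ (Nat.mul_le_mul_left _ h5)
      _ = b ^ M * (C * s ^ A * (q + 1) ^ B) := by ring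
      _ ≤ q ^ M * (C * s ^ A * (q + 1) ^ B) := Nat.mul_le_mul_right _ h6
      _ < q ^ M * (D * q ^ (M * s)) := Nat.mul_lt_mul_of_pos_left ih (pow_pos (by omega) _)
      _ = D * q ^ (M * (s + 1)) := by rw [mul_add, mul_one, pow_add]; ring

end Cfsg.Agent.H172.SI
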