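import Mathlib
import Cfsg.Agent.H172.SIBase
import Cfsg.Agent.H172.SINum
import Cfsg.Agent.H172.SIComm
import Cfsg.Agent.H599.IdxG2
import Cfsg.Agent.H599.IdxF4
import Cfsg.Agent.H599.IdxE
import Cfsg.Agent.S1054
import Cfsg.Agent.S1055
import Cfsg.Agent.S2121
import Cfsg.Agent.S2122

/-!
helper172, for S5762: exceptional untwisted groups in cross characteristic (all but `E₆`, `p = 5 ∣ q - 1`).
-/

set_option autoImplicit false

namespace Cfsg.Agent.H172.SI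

open Cfsg.Lie Cfsg.Agent.H903.SylMeet

section vb

variable {p : ℕ} [hp : Fact p.Prime]

/-- the valuation bound for `Aut T` -/
theorem vbound (hp2 : Odd p) {T : Type*} [Group T] [Finite T] {q j N : ℕ} (hq : ¬ p ∣ q) (hq2 : 2 ≤ q)
    {ds : List ℕ} (hds : ∀ k ∈ ds, 0 < k) (hcard : Nat.card T ∣ (q ^ p ^ j) ^ N * pr (q ^ p ^ j) ds)
    (hout : padicValNat p (Nat.card (Cfsg.Out T)) = j) :
    p ^ (padicValNat p (Nat.card T) + padicValNat p (Nat.card (Cfsg.Out T))) ≤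
      p ^ j * ((p ^ j * (q + 1) ^ Nat.totient (orderOf (q : ZMod p))) ^ nm (orderOf (q : ZMod p)) ds *
        p ^ wt p (orderOf (q : ZMod p)) ds) := by
  have hqj : 2 ≤ q ^ p ^ j := hq2.trans (Nat.le_self_pow (pow_pos hp.out.pos _).ne' _)
  have h0 : pr (q ^ p ^ j) ds ≠ 0 := pr_ne_zero hqj hds
  have h1 : (q ^ p ^ j) ^ N ≠ 0 := pow_ne_zero _ (by omega)
  have h2 : padicValNat p (Nat.card T) ≤ padicValNat p ((q ^ p ^ j) ^ N * pr (q ^ p ^ j) ds) := by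
    rw [← Nat.factorization_def _ hp.out, ← Nat.factorization_def _ hp.out]
    exact (Nat.factorization_le_iff_dvd Nat.card_pos.ne' (mul_ne_zero h1 h0)).2 hcard p
  have h3 : padicValNat p ((q ^ p ^ j) ^ N) = 0 := by
    apply padicValNat.eq_zero_of_not_dvd
    intro h
    exact hq (hp.out.dvd_of_dvd_pow (hp.out.dvd_of_dvd_pow h))
  rw [padicValNat.mul h1 h0, h3, zero_add] at h2
  rw [hout, add_comm, pow_add]
  exact Nat.mul_le_mul_left _ ((Nat.pow_le_pow_right hp.out.pos h2).trans (pow_v_pr_le hp2 hq hq2 ds hds))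

/-- decomposition of the order of a field -/
theorem exists_split (F : Type*) [Field F] [Fintype F] (hpF : ¬ p ∣ Fintype.card F) :
    ∃ (ℓ f q j f' : ℕ), ℓ.Prime ∧ CharP F ℓ ∧ f = p ^ j * f' ∧ ¬ p ∣ f' ∧ 0 < f' ∧ Fintype.card F = ℓ ^ f ∧
      q = ℓ ^ f' ∧ Fintype.card F = q ^ p ^ j ∧ ¬ p ∣ q ∧ 2 ≤ q := by
  obtain ⟨ℓ, hℓ⟩ := CharP.exists F
  obtain ⟨n, hlp, hn⟩ := FiniteField.card F ℓ
  obtain ⟨j, f', hf', hnf⟩ := Nat.exists_eq_pow_mul_and_not_dvd n.pos.ne' p hp.out.ne_one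
  have hf0 : 0 < f' := by
    rcases Nat.eq_zero_or_pos f' with h | h
    · exact absurd (h ▸ dvd_zero p) hf'
    · exact h
  have hq : Fintype.card F = (ℓ ^ f') ^ p ^ j := by
    rw [hn, ← pow_mul, hnf, mul_comm]
  refine ⟨ℓ, n, ℓ ^ f', j, f', hlp, hℓ, hnf, hf', hf0, hn, rfl, hq, ?_, ?_⟩
  · intro h
    apply hpF
    rw [hq]
    exact h.trans (dvd_pow_self _ (pow_pos hp.out.pos _).ne')
  · calc 2 ≤ ℓ := hlp.two_le
      _ ≤ ℓ ^ f' := Nat.le_self_pow hf0.ne' _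

theorem v_mul_coprime {c f j f' : ℕ} (hc : ¬ p ∣ c) (hf : f = p ^ j * f') (hf' : ¬ p ∣ f') :
    padicValNat p (c * f) = j := by
  have h1 : c ≠ 0 := by rintro rfl; exact hc (dvd_zero p)
  have h2 : f' ≠ 0 := by rintro rfl; exact hf' (dvd_zero p)
  have h3 : p ^ j ≠ 0 := (pow_pos hp.out.pos _).ne'
  rw [hf, padicValNat.mul h1 (mul_ne_zero h3 h2), padicValNat.mul h3 h2, padicValNat.prime_pow,
    padicValNat.eq_zero_of_not_dvd hc, padicValNat.eq_zero_of_not_dvd hf']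
  omega

theorem le_of_order_le_two {q : ℕ} (hq : ¬ p ∣ q) (hq2 : 2 ≤ q) (h : orderOf (q : ZMod p) ≤ 2) : p ≤ q + 1 := by
  have h0 := order_pos hq
  have h1 : p ∣ q ^ 2 - 1 := by
    rw [dvd_iff_order (by omega)]
    interval_cases orderOf (q : ZMod p)
    · exact one_dvd _
    · exact dvd_rfl
  have h2 : q ^ 2 - 1 = (q + 1) * (q - 1) := by
    have := Nat.sq_sub_sq q 1
    simpa using this
  rw [h2] at h1
  rcases (Nat.Prime.dvd_mul hp.out).1 h1 with h3 | h3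
  · exact Nat.le_of_dvd (by omega) h3
  · have := Nat.le_of_dvd (by omega) h3
    omega

theorem odd_of_five (hp5 : 5 ≤ p) : Odd p := hp.out.odd_of_ne_two (by omega)

theorem not_dvd_of_lt {c : ℕ} (hc : 0 < c) (h : c < p) : ¬ p ∣ c := fun hd => by
  have := Nat.le_of_dvd hc hd
  omega

/-- `B` in the case of a nontrivial field part -/
theorem bound_le {s q e l W n t : ℕ} (hs : 1 ≤ s) (hn : n ≤ l) (hφ : Nat.totient e * n ≤ l) (ht : t ≤ W) :
    s * ((s * (q + 1) ^ Nat.totient e) ^ n * t) ≤ W * s ^ (l + 1) * (q + 1) ^ l := by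
  have h1 : (s * (q + 1) ^ Nat.totient e) ^ n ≤ s ^ l * (q + 1) ^ l := by
    rw [mul_pow, ← pow_mul]
    exact Nat.mul_le_mul (Nat.pow_le_pow_right hs hn) (Nat.pow_le_pow_right (by omega) hφ)
  calc s * ((s * (q + 1) ^ Nat.totient e) ^ n * t) ≤ s * ((s ^ l * (q + 1) ^ l) * W) :=
        Nat.mul_le_mul_left _ (Nat.mul_le_mul h1 ht)
    _ = _ := by ring

/-- `B` with separate exponents -/
theorem bound_le' {s q e a b W n t : ℕ} (hs : 1 ≤ s) (hn : n ≤ a) (hφ : Nat.totient e * n ≤ b) (ht : t ≤ W) :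
    s * ((s * (q + 1) ^ Nat.totient e) ^ n * t) ≤ W * s ^ (a + 1) * (q + 1) ^ b := by
  have h1 : (s * (q + 1) ^ Nat.totient e) ^ n ≤ s ^ a * (q + 1) ^ b := by
    rw [mul_pow, ← pow_mul]
    exact Nat.mul_le_mul (Nat.pow_le_pow_right hs hn) (Nat.pow_le_pow_right (by omega) hφ)
  calc s * ((s * (q + 1) ^ Nat.totient e) ^ n * t) ≤ s * ((s ^ a * (q + 1) ^ b) * W) :=
        Nat.mul_le_mul_left _ (Nat.mul_le_mul h1 ht)
    _ = _ := by ring

end vb

/-- bounds for all `e` from a finite check -/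
theorem nm_check {ds : List ℕ} {M : ℕ} (hM : ∀ k ∈ ds, 0 < k ∧ k ≤ M) (Q : ℕ → ℕ → Prop) (h0 : ∀ e, Q e 0)
    (h : ∀ e ∈ Finset.Icc 1 M, Q e (nm e ds)) (e : ℕ) (he : 0 < e) : Q e (nm e ds) := by
  rcases Nat.lt_or_ge M e with h1 | h1
  · have : nm e ds = 0 := by
      rw [nm, List.countP_eq_zero]
      intro k hk hd
      have h2 := Nat.le_of_dvd (hM k hk).1 (by simpa using hd)
      have h3 := (hM k hk).2
      omega
    rw [this]
    exact h0 e
  · exact h e (Finset.mem_Icc.2 ⟨he, h1⟩)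

end Cfsg.Agent.H172.SI
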