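import Mathlib
import Cfsg.Agent.H172.SIBase
import Cfsg.Agent.H172.SINum
import Cfsg.Agent.H172.SIMain

/-!
helper172, for S2484 / S5760 (`p = 3`, exceptional groups in cross characteristic): the numerical criterion.
-/

set_option autoImplicit false

namespace Cfsg.Agent.H172.S3

open Cfsg.Agent.H903.SylMeet Cfsg.Agent.H172.SI

instance instFactThree : Fact (Nat.Prime 3) := ⟨Nat.prime_three⟩

/-- The numeric criterion, squared index bound. -/
theorem meet3_of_num_sq {T : Type*} [Group T] [Finite T] [IsSimpleGroup T] (hT : ¬ IsMulCommutative T) {m B : ℕ}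
    (hm : ∀ H : Subgroup T, H ≠ ⊤ → m ≤ H.index ^ 2)
    (hB : 3 ^ (padicValNat 3 (Nat.card T) + padicValNat 3 (Nat.card (Cfsg.Out T))) ≤ B)
    (h : B ^ 4 ≤ 16 * m) : Meet 3 T := by
  classical
  -- the least index
  have hnt : ∃ n : ℕ, ∃ H : Subgroup T, H ≠ ⊤ ∧ H.index = n := by
    refine ⟨_, ⊥, ?_, rfl⟩
    intro hbt
    apply hT
    refine ⟨⟨fun a b => ?_⟩⟩
    have ha : a ∈ (⊥ : Subgroup T) := hbt ▸ Subgroup.mem_top a
    have hb : b ∈ (⊥ : Subgroup T) := hbt ▸ Subgroup.mem_top b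
    rw [Subgroup.mem_bot.1 ha, Subgroup.mem_bot.1 hb]
  obtain ⟨H, hH, hHi⟩ := Nat.find_spec hnt
  have hmin : ∀ K : Subgroup T, K ≠ ⊤ → Nat.find hnt ≤ K.index := fun K hK =>
    Nat.find_min' hnt ⟨K, hK, rfl⟩
  have h1 := hm H hH
  rw [hHi] at h1
  obtain ⟨P⟩ : Nonempty (Sylow 3 (MulAut T)) := inferInstance
  refine meet_of_card_lt hT hmin P ?_
  rw [card_sylow hT P]
  set X := 3 ^ (padicValNat 3 (Nat.card T) + padicValNat 3 (Nat.card (Cfsg.Out T))) with hX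
  have hX0 : 0 < X := by rw [hX]; exact pow_pos (by norm_num) _
  have h2 : (X - 1) ^ 2 < X ^ 2 := Nat.pow_lt_pow_left (by omega) (by norm_num)
  have h3 : (X ^ 2) ^ 2 ≤ (4 * Nat.find hnt) ^ 2 := by
    calc (X ^ 2) ^ 2 = X ^ 4 := by ring
      _ ≤ B ^ 4 := Nat.pow_le_pow_left hB 4
      _ ≤ 16 * m := h
      _ ≤ 16 * (Nat.find hnt) ^ 2 := Nat.mul_le_mul_left _ h1
      _ = _ := by ring
  have h4 : X ^ 2 ≤ 4 * Nat.find hnt := (Nat.pow_le_pow_iff_left (by norm_num)).1 h3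
  calc (X - 1) ^ 2 < X ^ 2 := h2
    _ ≤ 4 * Nat.find hnt := h4
    _ = _ := by norm_num

/-- The `3`-part of `q ^ 2 - 1`. -/
def a3 (q : ℕ) : ℕ := 3 ^ padicValNat 3 (q ^ 2 - 1)

theorem sq_sub_one (q : ℕ) : q ^ 2 - 1 = (q + 1) * (q - 1) := by
  have := Nat.sq_sub_sq q 1
  simpa using this

theorem a3_odd {q : ℕ} (hq : ¬ 3 ∣ q) (hq2 : 2 ≤ q) (ho : ¬ 2 ∣ q) : 2 * a3 q ≤ q + 1 := by
  have h1 : a3 q ∣ (q + 1) * (q - 1) := by
    rw [← sq_sub_one]
    exact pow_padicValNat_dvd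
  have h2c : Nat.Coprime (a3 q) 2 := by
    unfold a3
    exact Nat.Coprime.pow_left _ (by norm_num)
  have h3 : (3 ∣ q - 1 ∧ ¬ 3 ∣ q + 1) ∨ ¬ 3 ∣ q - 1 := by omega
  rcases h3 with ⟨-, h3⟩ | h3
  · have h4 : Nat.Coprime (a3 q) (q + 1) := by
      unfold a3
      exact Nat.Coprime.pow_left _ ((Nat.Prime.coprime_iff_not_dvd Nat.prime_three).2 h3)
    have h5 : a3 q ∣ q - 1 := h4.dvd_of_dvd_mul_left h1
    have h6 : 2 ∣ q - 1 := by omega
    have h7 : a3 q * 2 ∣ q - 1 := h2c.mul_dvd_of_dvd_of_dvd h5 h6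
    have := Nat.le_of_dvd (by omega) h7
    omega
  · have h4 : Nat.Coprime (a3 q) (q - 1) := by
      unfold a3
      exact Nat.Coprime.pow_left _ ((Nat.Prime.coprime_iff_not_dvd Nat.prime_three).2 h3)
    have h5 : a3 q ∣ q + 1 := h4.dvd_of_dvd_mul_right h1
    have h6 : 2 ∣ q + 1 := by omega
    have h7 : a3 q * 2 ∣ q + 1 := h2c.mul_dvd_of_dvd_of_dvd h5 h6
    have := Nat.le_of_dvd (by omega) h7
    omega

theorem a3_even {f : ℕ} (hf : ¬ 3 ∣ f) : a3 (2 ^ f) = 3 := by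
  have hf0 : f ≠ 0 := by rintro rfl; exact hf (dvd_zero 3)
  have h3 := padicValNat.pow_sub_pow (p := 3) (x := 4) (y := 1) (by decide) (by norm_num) (by norm_num) (by norm_num)
    hf0
  have h4 : padicValNat 3 (4 - 1) = 1 := padicValNat.self (by norm_num)
  rw [h4, padicValNat.eq_zero_of_not_dvd hf, one_pow, add_zero] at h3
  unfold a3
  rw [← pow_mul, mul_comm, pow_mul, show (2 : ℕ) ^ 2 = 4 by norm_num, h3, pow_one]

theorem order_dvd_two {q : ℕ} (hq : ¬ 3 ∣ q) : orderOf (q : ZMod 3) ∣ 2 :=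
  ZMod.orderOf_dvd_card_sub_one (p := 3) (natCast_ne_zero hq)

theorem v_order {q : ℕ} (hq : ¬ 3 ∣ q) (hq2 : 2 ≤ q) :
    padicValNat 3 (q ^ orderOf (q : ZMod 3) - 1) = padicValNat 3 (q ^ 2 - 1) := by
  have h := v_pow (p := 3) (by decide) hq hq2 (k := 2) (by norm_num)
  rw [if_pos (order_dvd_two hq), padicValNat.eq_zero_of_not_dvd (show ¬ 3 ∣ 2 by norm_num), add_zero] at h
  exact h.symm

theorem nm_all {e : ℕ} {ds : List ℕ} (h : ∀ k ∈ ds, e ∣ k) : nm e ds = ds.length := by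
  unfold nm
  rw [List.countP_eq_length]
  intro a ha
  simpa using h a ha

theorem wt_all {p e : ℕ} [Fact p.Prime] : ∀ ds : List ℕ, (∀ k ∈ ds, 0 < k) → (∀ k ∈ ds, e ∣ k) →
    wt p e ds = padicValNat p ds.prod := by
  intro ds
  induction ds with
  | nil => intro _ _; simp [wt]
  | cons k ds ih =>
    intro h he
    have hds : ∀ k ∈ ds, 0 < k := fun k hk => h k (by simp [hk])
    have h0 : ds.prod ≠ 0 := by
      refine List.prod_ne_zero ?_
      intro h0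
      exact lt_irrefl 0 (hds 0 h0)
    rw [wt, List.prod_cons, padicValNat.mul (h k (by simp)).ne' h0, ih hds fun k hk => he k (by simp [hk]),
      if_pos (he k (by simp))]

/-- **The exact valuation** for even degrees. -/
theorem v3_pr {q j : ℕ} (hq : ¬ 3 ∣ q) (hq2 : 2 ≤ q) {ds : List ℕ} (hds : ∀ k ∈ ds, 0 < k) (he : ∀ k ∈ ds, 2 ∣ k) :
    padicValNat 3 (pr (q ^ 3 ^ j) ds) = (padicValNat 3 (q ^ 2 - 1) + j) * ds.length + padicValNat 3 ds.prod := by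
  rw [v_pr (p := 3) (by decide) hq hq2 ds hds, v_order hq hq2,
    nm_all fun k hk => (order_dvd_two hq).trans (he k hk), wt_all ds hds fun k hk => (order_dvd_two hq).trans (he k hk)]

/-- the bound for `3 ^ (v(T) + v(Out T))` -/
theorem bound3 {T : Type*} [Group T] [Finite T] {q j N c : ℕ} (hq : ¬ 3 ∣ q) (hq2 : 2 ≤ q)
    {ds : List ℕ} (hds : ∀ k ∈ ds, 0 < k) (he : ∀ k ∈ ds, 2 ∣ k)
    (hcard : Nat.card T ∣ (q ^ 3 ^ j) ^ N * pr (q ^ 3 ^ j) ds)
    (hout : padicValNat 3 (Nat.card (Cfsg.Out T)) = c) :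
    3 ^ (padicValNat 3 (Nat.card T) + padicValNat 3 (Nat.card (Cfsg.Out T))) ≤
      3 ^ c * ((a3 q * 3 ^ j) ^ ds.length * 3 ^ padicValNat 3 ds.prod) := by
  have hqj : 2 ≤ q ^ 3 ^ j := hq2.trans (Nat.le_self_pow (pow_pos (by norm_num) _).ne' _)
  have h0 : pr (q ^ 3 ^ j) ds ≠ 0 := pr_ne_zero hqj hds
  have h1 : (q ^ 3 ^ j) ^ N ≠ 0 := pow_ne_zero _ (by omega)
  have h2 : padicValNat 3 (Nat.card T) ≤ padicValNat 3 ((q ^ 3 ^ j) ^ N * pr (q ^ 3 ^ j) ds) := by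
    rw [← Nat.factorization_def _ Nat.prime_three, ← Nat.factorization_def _ Nat.prime_three]
    exact (Nat.factorization_le_iff_dvd Nat.card_pos.ne' (mul_ne_zero h1 h0)).2 hcard 3
  have h3 : padicValNat 3 ((q ^ 3 ^ j) ^ N) = 0 := by
    apply padicValNat.eq_zero_of_not_dvd
    intro h
    exact hq (Nat.prime_three.dvd_of_dvd_pow (Nat.prime_three.dvd_of_dvd_pow h))
  rw [padicValNat.mul h1 h0, h3, zero_add, v3_pr hq hq2 hds he] at h2
  rw [hout, add_comm, pow_add]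
  refine Nat.mul_le_mul_left _ ((Nat.pow_le_pow_right (by norm_num) h2).trans (le_of_eq ?_))
  unfold a3
  rw [pow_add, pow_mul, pow_add]

end Cfsg.Agent.H172.S3
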