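import Cfsg.Agent.S1100
import Cfsg.Agent.S0313
import Cfsg.Agent.H190.Chev

/-!
helper172, for S5762: `N ∩ N ^ u = 1` for a regular unipotent element `u` (adjoint Chevalley groups).
-/

set_option autoImplicit false

namespace Cfsg.Agent.H172.SI

open Cfsg.Lie Cfsg.Agent.ChevalleyStructure Cfsg.Agent.ChevalleyStructure.Elts
  Cfsg.Agent.ChevalleyStructure.BruhatSplit Cfsg.Agent.ChevalleyStructure.RootWord
  Cfsg.Agent.ChevalleyStructure.RootCombGood Cfsg.Agent.ChevalleyStructure.NPerm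
open scoped Pointwise

universe u

variable {D : ChevalleyDatum} {F : Type u} [Field F]

theorem nG_conj_simple (hD : InList D) {i : ℕ} (hi : i < D.rank) {x : GL D.Idx F}
    (hx : x ∈ D.rootSubgroup F (D.simple i)) :
    nG hD (D.simple i) 1 * x * (nG hD (D.simple i) 1)⁻¹ ∈ D.negUnipotent F := by
  have G := RootComb.good_of_mem hD
  have h := acts_nG_simple (F := F) hD hi (D.simple i) (G.simple_lt hi)
  have h1 := Subgroup.mem_map_of_mem (MulAut.conj (nG hD (D.simple i) (1 : F))).toMonoidHom hx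
  rw [h] at h1
  have h2 : wact D [i] (D.simple i) = D.neg (D.simple i) := by
    rw [wact_cons, wact_nil, G.reflect_simple hi]
  rw [h2] at h1
  have h3 : D.IsNegRoot (D.neg (D.simple i)) := (isNegRoot_neg G (G.simple_lt hi)).2 (G.simple_pos hi)
  exact rootSubgroup_le_neg hD h3 h1

theorem simple_not_mem (hD : InList D) {i : ℕ} (hi : i < D.rank) {t : F}
    (h : xG hD (D.simple i) t ∈ Ui F D i) : t = 0 := by
  have G := RootComb.good_of_mem hD
  have h1 := Ui_le i (nG_conj_Ui hD hi h)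
  have h2 := nG_conj_simple hD hi (xG_mem_rootSubgroup (F := F) hD (D.simple i) t)
  have h3 := eq_one_of_pos_of_neg hD h1 h2
  have h4 : xG hD (D.simple i) t = 1 := by
    have := mul_inv_eq_iff_eq_mul.1 h3
    rw [one_mul] at this
    exact mul_left_cancel (this.trans (mul_one _).symm)
  exact (xG_eq_one_iff hD (G.simple_lt hi) t).1 h4

/-- A regular unipotent element. -/
theorem exists_regular (hD : InList D) (F : Type u) [Field F] :
    ∃ u ∈ D.posUnipotent F, ∀ i < D.rank, u ∉ Ui F D i := by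
  have G := RootComb.good_of_mem hD
  have key : ∀ k ≤ D.rank, ∃ u ∈ D.posUnipotent F, ∀ i < D.rank, (k ≤ i → u ∈ Ui F D i) ∧ (i < k → u ∉ Ui F D i) := by
    intro k
    induction k with
    | zero =>
      intro _
      exact ⟨1, Subgroup.one_mem _, fun i _ => ⟨fun _ => Subgroup.one_mem _, fun h => absurd h (Nat.not_lt_zero i)⟩⟩
    | succ k ih =>
      intro hk
      obtain ⟨u, hu, h⟩ := ih (by omega)
      have hkr : k < D.rank := by omega
      have hx : xG hD (D.simple k) (1 : F) ∈ D.posUnipotent F := xG_mem_posUnipotent hD (G.simple_pos hkr) 1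
      have hne : ∀ i < D.rank, i ≠ k → xG hD (D.simple k) (1 : F) ∈ Ui F D i := by
        intro i hi hik
        refine Subgroup.subset_closure ⟨D.simple k, 1, G.simple_pos hkr, ?_, coe_xG hD _ _⟩
        intro he
        exact hik (simple_inj G hkr hi he).symm
      refine ⟨u * xG hD (D.simple k) 1, Subgroup.mul_mem _ hu hx, fun i hi => ⟨fun hki => ?_, fun hik hmem => ?_⟩⟩
      · exact Subgroup.mul_mem _ ((h i hi).1 (by omega)) (hne i hi (by omega))
      · rcases Nat.lt_or_ge i k with h1 | h1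
        · exact (h i hi).2 h1 ((Subgroup.mul_mem_cancel_right _ (hne i hi (by omega))).1 hmem)
        · have h2 : i = k := by omega
          subst h2
          have h3 := (Subgroup.mul_mem_cancel_left _ ((h i hi).1 le_rfl)).1 hmem
          exact one_ne_zero (simple_not_mem hD hi h3)
  obtain ⟨u, hu, h⟩ := key D.rank le_rfl
  exact ⟨u, hu, fun i hi => (h i hi).2 hi⟩

/-- If `n` maps `X_{p_i}` into `V` then `U ∩ n⁻¹ U n ≤ U_i`. -/
theorem mem_Ui_of_conj (hD : InList D) {n : GL D.Idx F} (hn : n ∈ D.monomialSubgroup F) {i : ℕ} (hi : i < D.rank)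
    (hneg : (D.rootSubgroup F (D.simple i)).map (MulAut.conj n).toMonoidHom ≤ D.negUnipotent F)
    {a : GL D.Idx F} (ha : a ∈ D.posUnipotent F) (hna : n * a * n⁻¹ ∈ D.posUnipotent F) : a ∈ Ui F D i := by
  obtain ⟨v, hv, x, hx, rfl⟩ := exists_Ui_mul hD hi ha
  set m : GL D.Idx F := nG hD (D.simple i) 1 with hm
  have hmN : m ∈ D.monomialSubgroup F := nG_simple_mem hD F hi
  have hn' : n * m⁻¹ ∈ D.monomialSubgroup F := Subgroup.mul_mem _ hn (Subgroup.inv_mem _ hmN)
  have hv' := nG_conj_Ui hD hi hv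
  obtain ⟨a', ha', c', hc', hac, hna'⟩ := split hD hn' (Ui_le i hv')
  have hy : m * x * m⁻¹ ∈ D.negUnipotent F := nG_conj_simple hD hi hx
  have hxV : n * x * n⁻¹ ∈ D.negUnipotent F := by
    have := hneg (Subgroup.mem_map_of_mem _ hx)
    simpa [MulAut.conj_apply] using this
  have hcV := Um_conj_mem hc'
  have e1 : n * (v * x) * n⁻¹ = (n * m⁻¹ * a' * (n * m⁻¹)⁻¹) * ((n * m⁻¹ * c' * (n * m⁻¹)⁻¹) * (n * x * n⁻¹)) := by
    have : m * v * m⁻¹ = a' * c' := hac
    have h2 : v = m⁻¹ * (a' * c') * m := by rw [← this]; group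
    rw [h2]; group
  have hz1 : (n * m⁻¹ * c' * (n * m⁻¹)⁻¹) * (n * x * n⁻¹) ∈ D.posUnipotent F := by
    rw [e1] at hna
    exact (Subgroup.mul_mem_cancel_left _ hna').1 hna
  have hz := eq_one_of_pos_of_neg hD hz1 (Subgroup.mul_mem _ hcV hxV)
  have e2 : c' * (m * x * m⁻¹) = 1 := by
    have : (n * m⁻¹ * c' * (n * m⁻¹)⁻¹) * (n * x * n⁻¹) = (n * m⁻¹) * (c' * (m * x * m⁻¹)) * (n * m⁻¹)⁻¹ := by group
    rw [this] at hz
    have h3 := mul_inv_eq_iff_eq_mul.1 hz
    rw [one_mul] at h3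
    exact mul_left_cancel (h3.trans (mul_one _).symm)
  have hc1 : c' = 1 := by
    apply eq_one_of_pos_of_neg hD (Um_le _ hc')
    rw [eq_inv_of_mul_eq_one_left e2]
    exact Subgroup.inv_mem _ hy
  rw [hc1, one_mul] at e2
  have hx1 : x = 1 := by
    have := mul_inv_eq_iff_eq_mul.1 e2
    rw [one_mul] at this
    exact mul_left_cancel (this.trans (mul_one _).symm)
  rw [hx1, mul_one]
  exact hv

/-- If `n ∈ N` maps no simple root subgroup into `V` then `n ∈ H`. -/
theorem mem_diagonal_of (hD : InList D) {n : GL D.Idx F} (hn : n ∈ D.monomialSubgroup F)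
    (h : ∀ i < D.rank, ¬ (D.rootSubgroup F (D.simple i)).map (MulAut.conj n).toMonoidHom ≤ D.negUnipotent F) :
    n ∈ D.diagonalSubgroup F := by
  have G := RootComb.good_of_mem hD
  obtain ⟨w, hw, hact⟩ := exists_acts hD hn
  have hpos : ∀ r, D.IsPosRoot r → D.IsPosRoot (wact D w r) := by
    intro r hr
    refine wact_pos_of_simple G hw (fun i hi => ?_) hr
    rcases pos_or_neg G (wact_lt G hw (G.simple_lt hi)) with h' | h'
    · exact h'
    · exact absurd (map_le_of_neg hD hact (G.simple_lt hi) h') (h i hi)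
  have hU : D.posUnipotent F ≤ (D.posUnipotent F).comap (MulAut.conj n).toMonoidHom := by
    refine (posUnipotent_le_iff hD _).2 fun r hr t => ?_
    have h1 := Subgroup.mem_map_of_mem (MulAut.conj n).toMonoidHom (xG_mem_rootSubgroup (F := F) hD r t)
    rw [hact r hr.1] at h1
    exact rootSubgroup_le_pos hD (hpos r hr) h1
  have hB : D.borelSubgroup F ≤ (D.borelSubgroup F).comap (MulAut.conj n).toMonoidHom := by
    refine sup_le ?_ ?_
    · intro u hu
      exact (le_sup_left : D.posUnipotent F ≤ D.borelSubgroup F) (hU hu)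
    · intro t ht
      exact (le_sup_right : D.diagonalSubgroup F ≤ D.borelSubgroup F) (S1100.conj_mem_diagonal hD hn ht)
  obtain ⟨P, hPB, hPN, -⟩ := Cfsg.Agent.S1042.result (F := F) D hD
  have hnG : n ∈ D.group F := monomial_le_group hD F hn
  have h1 : (⟨n, hnG⟩ : ↥(D.group F))⁻¹ ∈ P.B := by
    refine Cfsg.Agent.S0313.mem_of_conj_borel_le P P.B le_rfl _ fun b hb => ?_
    rw [hPB, Subgroup.mem_subgroupOf] at hb ⊢
    have := hB hb
    simpa [MulAut.conj_apply] using this
  have h2 := P.B.inv_mem h1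
  rw [inv_inv, hPB, Subgroup.mem_subgroupOf] at h2
  rw [← (Cfsg.Agent.S1040.result (F := F) D hD).2]
  exact ⟨h2, hn⟩

/-- the torus normalises `U_i` -/
theorem torus_conj_Ui (hD : InList D) {t : GL D.Idx F} (ht : t ∈ D.diagonalSubgroup F) {i : ℕ} {v : GL D.Idx F}
    (hv : v ∈ Ui F D i) : t * v * t⁻¹ ∈ Ui F D i := by
  have : Ui F D i ≤ (Ui F D i).comap (MulAut.conj t).toMonoidHom := by
    refine (Subgroup.closure_le _).2 ?_
    rintro x ⟨s, a, hs, hne, hx⟩
    have hx' : x = xG hD s a := Units.ext (hx.trans (coe_xG hD s a).symm)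
    show t * x * t⁻¹ ∈ Ui F D i
    rw [hx', H190.conj_xG hD ht ⟨s, hs.1⟩ a]
    exact Subgroup.subset_closure ⟨s, _, hs, hne, coe_xG hD _ _⟩
  exact this hv

/-- a torus element centralising a regular unipotent element is trivial -/
theorem torus_trivial (hD : InList D) {t : GL D.Idx F} (ht : t ∈ D.diagonalSubgroup F) {u : GL D.Idx F}
    (hu : u ∈ D.posUnipotent F) (hreg : ∀ i < D.rank, u ∉ Ui F D i) (hc : t * u * t⁻¹ = u) : t = 1 := by
  have G := RootComb.good_of_mem hD
  obtain ⟨c, hc0, hcm, hcx⟩ := H190.torus_form hD ht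
  -- the simple roots
  have h1 : ∀ i < D.rank, ∏ k ∈ Finset.range D.rank, c k ^ (D.cartan k (D.simple i)) = 1 := by
    intro i hi
    obtain ⟨v, hv, x, hx, hvx⟩ := exists_Ui_mul hD hi hu
    obtain ⟨s, rfl⟩ := (mem_rootSubgroup_iff hD (D.simple i) x).1 hx
    set η := ∏ k ∈ Finset.range D.rank, c k ^ (D.cartan k (D.simple i)) with hη
    have h2 : t * xG hD (D.simple i) s * t⁻¹ = xG hD (D.simple i) (η * s) := hcx _ (G.simple_lt hi) s
    have h3 : v⁻¹ * (t * v * t⁻¹) = xG hD (D.simple i) (s - η * s) := by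
      have e : t * u * t⁻¹ = (t * v * t⁻¹) * (t * xG hD (D.simple i) s * t⁻¹) := by rw [hvx]; group
      rw [hc, hvx, h2] at e
      rw [sub_eq_add_neg, ← xG_add, ← xG_inv, eq_mul_inv_iff_mul_eq, mul_assoc, ← e]
      group
    have h4 : xG hD (D.simple i) (s - η * s) ∈ Ui F D i := by
      rw [← h3]
      exact Subgroup.mul_mem _ (Subgroup.inv_mem _ hv) (torus_conj_Ui hD ht hv)
    have h5 := simple_not_mem hD hi h4
    have hs0 : s ≠ 0 := by
      rintro rfl
      apply hreg i hi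
      rw [hvx, xG_zero, mul_one]
      exact hv
    have h6 : η * s = 1 * s := by rw [one_mul]; exact (sub_eq_zero.1 h5).symm
    exact mul_right_cancel₀ hs0 h6
  have h2 : ∀ r < D.nroots, ∏ k ∈ Finset.range D.rank, c k ^ (D.cartan k r) = 1 := by
    refine root_induction G h1 fun i hi r hr hP => ?_
    have h3 : ∏ k ∈ Finset.range D.rank, c k ^ (D.cartan k (D.reflectRoot i r)) =
        (∏ k ∈ Finset.range D.rank, c k ^ (D.cartan k r)) *
          ((∏ k ∈ Finset.range D.rank, c k ^ (D.cartan k (D.simple i))) ^ (D.cartan i r))⁻¹ := by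
      rw [← Finset.prod_zpow, ← Finset.prod_inv_distrib, ← Finset.prod_mul_distrib]
      refine Finset.prod_congr rfl fun k hk => ?_
      have hk' := Finset.mem_range.1 hk
      rw [G.cartan_reflect hi hr hk', zpow_sub₀ (hc0 k hk'), div_eq_mul_inv, mul_comm (D.cartan i r), zpow_mul]
    rw [h3, hP, h1 i hi]
    simp
  refine H190.torus_ext hD ht (Subgroup.one_mem _) fun r => ?_
  have h3 : H190.ent t r = 1 := by
    rw [H190.ent_of_dmat hcm]
    exact h2 r r.2
  rw [h3]
  unfold H190.ent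
  rw [Units.val_one, Matrix.one_apply_eq]

/-- **`N ∩ N ^ u = 1`** for a regular unipotent element `u`. -/
theorem monomial_inter (hD : InList D) {u : GL D.Idx F} (hu : u ∈ D.posUnipotent F)
    (hreg : ∀ i < D.rank, u ∉ Ui F D i) {n : GL D.Idx F} (hn : n ∈ D.monomialSubgroup F)
    (hn' : u * n * u⁻¹ ∈ D.monomialSubgroup F) : n = 1 := by
  obtain ⟨n', hn'e⟩ : ∃ n', n' = u * n * u⁻¹ := ⟨_, rfl⟩
  rw [← hn'e] at hn'
  have huB : u ∈ D.borelSubgroup F := (le_sup_left : D.posUnipotent F ≤ _) hu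
  obtain ⟨a, ha, c, hc, hac, hna⟩ := split hD hn' hu
  obtain ⟨-, huniq⟩ := Cfsg.Agent.S1100.result (F := F) D hD
  have haB : n' * a * n'⁻¹ ∈ D.borelSubgroup F := (le_sup_left : D.posUnipotent F ≤ _) hna
  have e1 : u * n * 1 = (n' * a * n'⁻¹) * n' * c := by
    calc u * n * 1 = (u * n * u⁻¹) * u := by group
      _ = n' * (a * c) := by rw [← hn'e, ← hac]
      _ = _ := by group
  obtain ⟨hH, -⟩ := huniq u (n' * a * n'⁻¹) n n' 1 c huB haB hn hn' (Subgroup.one_mem _) hc e1
  set h := n⁻¹ * n' with hh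
  have hconj : n' * h⁻¹ * n'⁻¹ ∈ D.diagonalSubgroup F := S1100.conj_mem_diagonal hD hn' (Subgroup.inv_mem _ hH)
  have e2 : (u * (n' * h⁻¹ * n'⁻¹)) * n' * 1 = (n' * a * n'⁻¹) * n' * c := by
    rw [← e1, hh]; group
  obtain ⟨-, hcons⟩ := huniq (u * (n' * h⁻¹ * n'⁻¹)) (n' * a * n'⁻¹) n' n' 1 c
    (Subgroup.mul_mem _ huB ((le_sup_right : D.diagonalSubgroup F ≤ _) hconj)) haB hn' hn' (Subgroup.one_mem _) hc e2
  obtain ⟨e3, e4⟩ := hcons rfl
  have hua : u = a := by rw [hac, ← e4, mul_one]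
  have e5 : n' * h⁻¹ * n'⁻¹ ∈ D.posUnipotent F := by
    have : n' * h⁻¹ * n'⁻¹ = u⁻¹ * (n' * a * n'⁻¹) := by rw [← e3]; group
    rw [this]
    exact Subgroup.mul_mem _ (Subgroup.inv_mem _ hu) hna
  have e6 : n' * h⁻¹ * n'⁻¹ = 1 := by
    have h1 : n' * h⁻¹ * n'⁻¹ ∈ D.posUnipotent F ⊓ D.diagonalSubgroup F := ⟨e5, hconj⟩
    rw [(Cfsg.Agent.S1036.result (F := F) D hD).2] at h1
    exact Subgroup.mem_bot.1 h1
  have e7 : h = 1 := by
    have := mul_inv_eq_iff_eq_mul.1 e6
    rw [one_mul] at this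
    have h8 : h⁻¹ = 1 := mul_left_cancel (this.trans (mul_one _).symm)
    exact inv_eq_one.1 h8
  have e8 : n' = n := by
    have : n' = n * h := by rw [hh]; group
    rw [this, e7, mul_one]
  rw [e8] at hn'e hna e3
  have hcomm : n * u * n⁻¹ = u := by
    rw [← hua] at e3
    rw [← e3, e7]
    group
  have hnH : n ∈ D.diagonalSubgroup F := by
    refine mem_diagonal_of hD hn fun i hi hneg => hreg i hi ?_
    exact mem_Ui_of_conj hD hn hi hneg hu (by rw [hcomm]; exact hu)
  exact torus_trivial hD hnH hu hreg hcomm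

end Cfsg.Agent.H172.SI
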