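import Cfsg.Agent.H172.SIChev
import Cfsg.Agent.H172.SINN
import Cfsg.Agent.S1039
import Cfsg.Agent.S1093

/-!
helper172, for S5762: `E₆` in cross characteristic.
-/

set_option autoImplicit false

namespace Cfsg.Agent.H172.SI

open Cfsg.Lie Cfsg.Agent.H903.SylMeet Cfsg.Agent.H190 Cfsg.Agent.ChevalleyStructure
  Cfsg.Agent.ChevalleyStructure.Elts

variable {p : ℕ} [hp : Fact p.Prime]

theorem card_NG {D : ChevalleyDatum} (hD : InList D) {F : Type} [Field F] [Fintype F] {W : Type*} [Group W]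
    (φ : ↥(D.monomialSubgroup F) →* W) (hφ : Function.Surjective φ)
    (hker : φ.ker = (D.diagonalSubgroup F).subgroupOf (D.monomialSubgroup F)) :
    Nat.card (NG D F) = Nat.card ↥(D.diagonalSubgroup F) * Nat.card W := by
  have h1 : Nat.card (NG D F) = Nat.card ↥(D.monomialSubgroup F) :=
    Nat.card_congr (Subgroup.subgroupOfEquivOfLe (monomial_le_group hD F)).toEquiv
  have h2 : Nat.card ↥((D.diagonalSubgroup F).subgroupOf (D.monomialSubgroup F)) = Nat.card ↥(D.diagonalSubgroup F) :=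
    Nat.card_congr (Subgroup.subgroupOfEquivOfLe (diagonal_le_monomial D F)).toEquiv
  rw [h1, Subgroup.card_eq_card_quotient_mul_card_subgroup φ.ker, hker, h2, ← hker,
    Nat.card_congr (QuotientGroup.quotientKerEquivOfSurjective φ hφ).toEquiv, mul_comm]

theorem order_eq_one {q : ℕ} (hq2 : 2 ≤ q) (h : p ∣ q - 1) : orderOf (q : ZMod p) = 1 := by
  have h1 := (dvd_iff_order (p := p) (q := q) (k := 1) (by omega)).1 (by rwa [pow_one])
  exact Nat.dvd_one.1 h1

theorem nm_one (ds : List ℕ) : nm 1 ds = ds.length := by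
  unfold nm
  rw [List.countP_eq_length]
  intro a _
  simp

theorem wt_one : ∀ ds : List ℕ, (∀ k ∈ ds, 0 < k) → wt p 1 ds = padicValNat p ds.prod := by
  intro ds
  induction ds with
  | nil => intro _; simp [wt]
  | cons k ds ih =>
    intro h
    have hds : ∀ k ∈ ds, 0 < k := fun k hk => h k (by simp [hk])
    have h0 : ds.prod ≠ 0 := by
      refine List.prod_ne_zero ?_
      intro h0
      exact lt_irrefl 0 (hds 0 h0)
    rw [wt, List.prod_cons, padicValNat.mul (h k (by simp)).ne' h0, ih hds]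
    simp

/-- **The monomial subgroup has index prime to `p`** if `p ∣ q - 1`. -/
theorem not_dvd_index_NG {D : ChevalleyDatum} {d : ℕ → ℕ} {N : ℕ} {ds : List ℕ} (h : Deg D d N ds)
    (hds : ∀ k ∈ ds, 0 < k) (hp2 : Odd p) {F : Type} [Field F] [Fintype F] (hd : ¬ p ∣ d (Fintype.card F))
    (hq : p ∣ Fintype.card F - 1) {W : Type*} [Group W]
    (φ : ↥(D.monomialSubgroup F) →* W) (hφ : Function.Surjective φ)
    (hker : φ.ker = (D.diagonalSubgroup F).subgroupOf (D.monomialSubgroup F)) (hW : Nat.card W = ds.prod) :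
    ¬ p ∣ (NG D F).index := by
  have : Finite (GL D.Idx F) := inferInstance
  have hq2 : 2 ≤ Fintype.card F := Fintype.one_lt_card
  have hpq : ¬ p ∣ Fintype.card F := by
    intro h1
    have h2 := (Nat.dvd_sub h1 hq)
    have h3 : Fintype.card F - (Fintype.card F - 1) = 1 := by omega
    rw [h3] at h2
    exact hp.out.one_lt.ne' (Nat.dvd_one.1 h2)
  have hG := h.card (F := F)
  have hT := h.tor (F := F)
  have hN := card_NG h.mem φ hφ hker
  set q := Fintype.card F with hqdef
  have hd0 : d q ≠ 0 := h.d0 q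
  have hpr : pr q ds ≠ 0 := pr_ne_zero hq2 hds
  have hvG : padicValNat p (Nat.card ↥(D.group F)) = padicValNat p (q - 1) * ds.length + padicValNat p ds.prod := by
    have h1 : padicValNat p (d q * Nat.card ↥(D.group F)) = padicValNat p (q ^ N * pr q ds) := by
      rw [hG]; rfl
    have h36 : padicValNat p (q ^ N) = 0 :=
      padicValNat.eq_zero_of_not_dvd fun h => hpq (hp.out.dvd_of_dvd_pow h)
    rw [padicValNat.mul hd0 Nat.card_pos.ne', padicValNat.mul (pow_ne_zero _ (by omega)) hpr,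
      padicValNat.eq_zero_of_not_dvd hd, h36, zero_add, zero_add] at h1
    rw [h1]
    have h2 := v_pr (p := p) hp2 (q := q) (j := 0) hpq hq2 ds hds
    rw [pow_zero, pow_one, order_eq_one hq2 hq, pow_one, add_zero, nm_one, wt_one ds hds] at h2
    exact h2
  have hvT : padicValNat p (Nat.card ↥(D.diagonalSubgroup F)) = padicValNat p (q - 1) * ds.length := by
    have h1 : padicValNat p (d q * Nat.card ↥(D.diagonalSubgroup F)) = padicValNat p ((q - 1) ^ ds.length) := by
      rw [hT]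
    have hq1 : q - 1 ≠ 0 := by omega
    rw [padicValNat.mul hd0 Nat.card_pos.ne', padicValNat.eq_zero_of_not_dvd hd, zero_add,
      padicValNat.pow] at h1
    rw [h1, mul_comm]
  have hW0 : Nat.card W ≠ 0 := by
    rw [hW]
    refine List.prod_ne_zero ?_
    intro h0
    exact lt_irrefl 0 (hds 0 h0)
  have hvN : padicValNat p (Nat.card (NG D F)) = padicValNat p (Nat.card ↥(D.group F)) := by
    rw [hN, padicValNat.mul Nat.card_pos.ne' hW0, hvT, hW, hvG]
  intro hdvd
  have h1 := Subgroup.card_mul_index (NG D F)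
  have hi0 : (NG D F).index ≠ 0 := Subgroup.FiniteIndex.index_ne_zero
  rw [← h1, padicValNat.mul Nat.card_pos.ne' hi0] at hvN
  have h2 := one_le_padicValNat_of_dvd hi0 hdvd
  omega

/-- **The case `p ∣ q - 1`, `p ∤ |Out|`** for the adjoint Chevalley groups. -/
theorem meet_of_index_NG {D : ChevalleyDatum} (hD : InList D) {F : Type} [Field F] [Fintype F]
    [IsSimpleGroup ↥(D.group F)] (hT : ¬ IsMulCommutative ↥(D.group F))
    (ho : ¬ p ∣ Nat.card (Cfsg.Out ↥(D.group F))) (hi : ¬ p ∣ (NG D F).index) : Meet p ↥(D.group F) := by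
  have : Finite (GL D.Idx F) := inferInstance
  obtain ⟨S⟩ : Nonempty (Sylow p (NG D F)) := inferInstance
  have hSp : IsPGroup p ((S : Subgroup (NG D F)).map (NG D F).subtype) := S.isPGroup'.map _
  have hSi : ¬ p ∣ ((S : Subgroup (NG D F)).map (NG D F).subtype).index := by
    rw [Subgroup.index_map_subtype]
    intro h
    rcases (Nat.Prime.dvd_mul hp.out).1 h with h1 | h1
    · exact S.not_dvd_index h1
    · exact hi h1
  obtain ⟨u, hu, hreg⟩ := exists_regular hD F
  have huG : u ∈ D.group F :=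
    (Cfsg.Agent.S1043.result (F := F) D hD).1 ((le_sup_left : D.posUnipotent F ≤ D.borelSubgroup F) hu)
  refine meet_of_inner hT ho _ hSp hSi ⟨⟨u, huG⟩, ?_⟩
  rintro _ ⟨n, -, rfl⟩ hn'
  obtain ⟨n', -, hn'e⟩ := hn'
  have h1 : ((n' : ↥(D.group F)) : GL D.Idx F) ∈ D.monomialSubgroup F := n'.2
  have h2 : ((n : ↥(D.group F)) : GL D.Idx F) ∈ D.monomialSubgroup F := n.2
  have h3 : ((n' : ↥(D.group F)) : GL D.Idx F) = u * ((n : ↥(D.group F)) : GL D.Idx F) * u⁻¹ :=
    congrArg Subtype.val hn'e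
  rw [h3] at h1
  exact Subtype.ext (monomial_inter hD hu hreg h2 h1)

theorem cross_E6 {F : Type} [Field F] [Fintype F] (hp5 : 5 ≤ p)
    (hpF : ¬ p ∣ Fintype.card F) : Meet p ↥(chevE6.group F) := by
  refine cross_E6_of hp5 hpF fun h5 hq ho => ?_
  have : Finite (GL chevE6.Idx F) := inferInstance
  obtain ⟨hs, hT⟩ := Cfsg.Agent.S1054.result (F := F) chevE6 (by simp)
  obtain ⟨φ, hφ, hker, -⟩ := Cfsg.Agent.S1039.result (F := F) (chevE6, ⟨6, CoxeterMatrix.E₆⟩) (by simp)
  have hW := Cfsg.Agent.S1093.result (⟨6, CoxeterMatrix.E₆⟩, 51840) (by simp)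
  refine meet_of_index_NG deg_E6.mem hT ho ?_
  refine not_dvd_index_NG deg_E6 (by simp) (odd_of_five hp5) ?_ (h5 ▸ hq) φ hφ hker (by rw [hW]; norm_num)
  intro h1
  have := Nat.le_of_dvd (by norm_num) (h1.trans (Nat.gcd_dvd_left _ _))
  omega

end Cfsg.Agent.H172.SI
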