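import Mathlib
import Cfsg.Agent.H172.S3Num
import Cfsg.Agent.H172.S3G2
import Cfsg.Agent.H172.SIE6
import Cfsg.Agent.S1092

/-!
helper172, for S2484 / S5760: `G₂(q)` (but `q = 8`) and `F₄(q)` (but `q = 2, 8`), `3 ∤ q`, `p = 3`.
-/

set_option autoImplicit false

namespace Cfsg.Agent.H172.S3

open Cfsg.Lie Cfsg.Agent.H903.SylMeet Cfsg.Agent.H172.SI

theorem pow_three_le {j : ℕ} (hj : j ≠ 0) : 3 ≤ 3 ^ j := Nat.le_self_pow hj _

theorem three_ne_zero_of {F : Type*} [Field F] [Fintype F] (h3F : ¬ 3 ∣ Fintype.card F) : (3 : F) ≠ 0 := by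
  intro h
  obtain ⟨ℓ, hℓ⟩ := CharP.exists F
  obtain ⟨n, hlp, hn⟩ := FiniteField.card F ℓ
  have h1 : ((3 : ℕ) : F) = 0 := by exact_mod_cast h
  have h2 : ℓ ∣ 3 := (CharP.cast_eq_zero_iff F ℓ 3).1 h1
  have h3 : ℓ = 3 := (Nat.prime_dvd_prime_iff_eq hlp Nat.prime_three).1 h2
  apply h3F
  rw [hn, h3]
  exact dvd_pow_self _ n.pos.ne'

theorem two_ne_zero_of {F : Type*} [Field F] [Fintype F] (h2F : ¬ 2 ∣ Fintype.card F) : (2 : F) ≠ 0 := by
  intro h
  obtain ⟨ℓ, hℓ⟩ := CharP.exists F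
  obtain ⟨n, hlp, hn⟩ := FiniteField.card F ℓ
  have h1 : ((2 : ℕ) : F) = 0 := by exact_mod_cast h
  have h2 : ℓ ∣ 2 := (CharP.cast_eq_zero_iff F ℓ 2).1 h1
  have h3 : ℓ = 2 := (Nat.prime_dvd_prime_iff_eq hlp Nat.prime_two).1 h2
  apply h2F
  rw [hn, h3]
  exact dvd_pow_self _ n.pos.ne'

/-- the parity of `q₁` -/
theorem parity {ℓ f' q : ℕ} (hℓ : ℓ.Prime) (hqd : q = ℓ ^ f') (hf' : ¬ 3 ∣ f') (hpq : ¬ 3 ∣ q) (hq2 : 2 ≤ q) :
    (q = 2 ^ f' ∧ a3 q = 3) ∨ (¬ 2 ∣ q ∧ 5 ≤ q ∧ 2 * a3 q ≤ q + 1) := by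
  rcases Nat.Prime.eq_two_or_odd' hℓ with h | h
  · left
    subst h
    exact ⟨hqd, by rw [hqd]; exact a3_even hf'⟩
  · right
    have h1 : ¬ 2 ∣ q := by
      rw [hqd]
      intro h2
      have := (Nat.prime_dvd_prime_iff_eq Nat.prime_two hℓ).1 (Nat.prime_two.dvd_of_dvd_pow h2)
      subst this
      exact absurd h (by decide)
    exact ⟨h1, by omega, a3_odd hpq hq2 h1⟩

theorem eq_eight {f' : ℕ} (h : (2 : ℕ) ^ f' = 2) : f' = 1 := by
  have : (2 : ℕ) ^ f' = 2 ^ 1 := by rw [h, pow_one]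
  exact Nat.pow_right_injective le_rfl this

/-- **`G₂(q)`, `p = 3 ∤ q`, all but `q = 8`.** -/
theorem cross3_G2_of {F : Type} [Field F] [Fintype F] (hF : 3 ≤ Fintype.card F) (h3F : ¬ 3 ∣ Fintype.card F)
    (hspec : Fintype.card F = 8 → Meet 3 ↥(chevG2.group F)) : Meet 3 ↥(chevG2.group F) := by
  classical
  have : Finite (GL chevG2.Idx F) := inferInstance
  obtain ⟨hs, hT⟩ := Cfsg.Agent.S1055.result (F := F) (by
    by_contra hcon
    push Not at hcon
    have h5 : (Finset.univ : Finset F) ⊆ {0, 1} := fun a _ => by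
      by_cases h6 : a = 0
      · simp [h6]
      · simp [hcon a h6]
    have h4 := Finset.card_le_card h5
    rw [Finset.card_univ] at h4
    have h6 : ({0, 1} : Finset F).card ≤ 2 := Finset.card_le_two
    omega)
  obtain ⟨ℓ, f, q, j, f', hℓ, hch, hf, hf', hf0, hFc, hqd, hFq, hpq, hq2⟩ := exists_split (p := 3) F h3F
  have : Fact ℓ.Prime := ⟨hℓ⟩
  have hl3 : ℓ ≠ 3 := by
    rintro rfl
    apply h3F
    rw [hFq, hqd, ← pow_mul]
    exact dvd_pow_self _ (Nat.mul_pos hf0 (pow_pos (by norm_num) _)).ne'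
  have hout := Cfsg.Agent.S2121.result ℓ f hFc (by omega)
  rw [if_neg hl3] at hout
  have hv : padicValNat 3 (Nat.card (Cfsg.Out ↥(chevG2.group F))) = j :=
    hout1 (p := 3) (c := 1) (by norm_num) hf hf' (by rw [one_mul]; exact hout)
  have h3 := three_ne_zero_of h3F
  have hb := bound3 hpq hq2 (ds := [2, 6]) (by simp) (by decide) (card_dvd deg_G2 hFq) hv
  have hv3 : 3 ^ padicValNat 3 ([2, 6] : List ℕ).prod = 3 := by
    have h1 : ([2, 6] : List ℕ).prod = 4 * 3 := by norm_num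
    rw [h1, padicValNat.mul (by norm_num) (by norm_num), padicValNat.self (by norm_num),
      padicValNat.eq_zero_of_not_dvd (by norm_num)]
    norm_num
  rw [hv3] at hb
  simp only [List.length_cons, List.length_nil, zero_add, one_add_one_eq_two] at hb
  have hm6 : ∀ H : Subgroup ↥(chevG2.group F), H ≠ ⊤ → (q ^ 3 ^ j) ^ 6 ≤ H.index ^ 2 := fun H hH => by
    have := Cfsg.Agent.H934.HeisF4G2.sq_le_G2 h3 hs H hH
    rwa [hFq] at this
  rcases parity hℓ hqd hf' hpq hq2 with ⟨he, ha⟩ | ⟨ho, hq5, ha⟩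
  · -- even `q`
    rw [ha] at hb
    rcases Nat.eq_zero_or_pos j with hj | hj
    · subst hj
      simp only [pow_zero, pow_one, mul_one, one_mul] at hb hm6 hFq
      by_cases h1 : 3 ∣ Fintype.card F - 1
      · obtain ⟨φ, hφ, hker, -⟩ := Cfsg.Agent.S1039.result (F := F) (chevG2, ⟨2, CoxeterMatrix.G₂⟩) (by simp)
        have hW := Cfsg.Agent.S1092.result (⟨2, CoxeterMatrix.G₂⟩, 12) (by simp)
        refine meet_of_index_NG deg_G2.mem hT (not_dvd_of_v Nat.card_pos.ne' hv) ?_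
        exact not_dvd_index_NG deg_G2 (by simp) (by decide) (by norm_num) h1 φ hφ hker (by rw [hW]; norm_num)
      · -- `q ≥ 32`
        have h8 : 8 ≤ q := by
          rcases Nat.lt_or_ge f' 3 with h | h
          · interval_cases f'
            · rw [he] at hFq; omega
            · rw [he] at hFq; rw [hFq] at h1; exact absurd (by norm_num) h1
          · rw [he]
            exact Nat.pow_le_pow_right (n := 2) (by norm_num) h
        refine meet3_of_num_sq hT hm6 hb ?_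
        calc (3 ^ 2 * 3) ^ 4 ≤ 16 * 8 ^ 6 := by norm_num
          _ ≤ 16 * q ^ 6 := Nat.mul_le_mul_left _ (Nat.pow_le_pow_left h8 6)
    · have hs3 := pow_three_le hj.ne'
      have e1 : (3 ^ j * ((3 * 3 ^ j) ^ 2 * 3)) ^ 4 = 3 ^ 12 * (3 ^ j) ^ 12 := by ring
      have e2 : 16 * (q ^ 3 ^ j) ^ 6 = 16 * q ^ (6 * 3 ^ j) := by rw [← pow_mul, mul_comm (3 ^ j) 6]
      rcases Nat.lt_or_ge q 4 with h4 | h4
      · have hq : q = 2 := by omega
        subst hq
        rcases Nat.lt_or_ge j 2 with hj2 | hj2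
        · have hj1 : j = 1 := by omega
          subst hj1
          exact hspec (by rw [hFq]; norm_num)
        · have hs9 : 9 ≤ 3 ^ j := by
            calc 9 = 3 ^ 2 := by norm_num
              _ ≤ 3 ^ j := Nat.pow_le_pow_right (by norm_num) hj2
          refine meet3_of_num_sq hT hm6 hb ?_
          have := num_ineq (C := 3 ^ 12) (A := 12) (B := 0) (M := 6) (D := 16) (s₀ := 9) (b := 2) (by norm_num)
            (by norm_num) (by norm_num) (by norm_num) (by norm_num) hs9 le_rfl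
          rw [e1, e2]
          simpa using this.le
      · refine meet3_of_num_sq hT hm6 hb ?_
        have := num_ineq (C := 3 ^ 12) (A := 12) (B := 0) (M := 6) (D := 16) (s₀ := 3) (b := 4) (by norm_num)
          (by norm_num) (by norm_num) (by norm_num) (by norm_num) hs3 h4
        rw [e1, e2]
        simpa using this.le
  · -- odd `q`
    have ha4 : 256 * a3 q ^ 8 ≤ (q + 1) ^ 8 := by
      calc 256 * a3 q ^ 8 = (2 * a3 q) ^ 8 := by ring
        _ ≤ _ := Nat.pow_le_pow_left ha 8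
    rcases Nat.eq_zero_or_pos j with hj | hj
    · subst hj
      simp only [pow_zero, pow_one, mul_one, one_mul] at hb hm6 hFq
      have h2 : (2 : F) ≠ 0 := two_ne_zero_of (by rwa [hFq])
      have hm8 : ∀ H : Subgroup ↥(chevG2.group F), H ≠ ⊤ → (q ^ 8 + 3) / 4 ≤ H.index ^ 2 := fun H hH => by
        have := S3G2.pow_eight_le h2 h3 hs H hH
        rw [hFq] at this
        omega
      refine meet3_of_num_sq hT hm8 hb ?_
      have h1 := num_ineq (C := 81) (A := 0) (B := 8) (M := 8) (D := 1024) (s₀ := 1) (b := 5) (by norm_num)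
        (by norm_num) (by norm_num) (by norm_num) (by norm_num) le_rfl hq5
      rw [one_pow, mul_one, mul_one] at h1
      have h4 : q ^ 8 ≤ 4 * ((q ^ 8 + 3) / 4) := by omega
      have h5 : 256 * (a3 q ^ 2 * 3) ^ 4 ≤ 256 * (16 * ((q ^ 8 + 3) / 4)) := by
        calc 256 * (a3 q ^ 2 * 3) ^ 4 = 81 * (256 * a3 q ^ 8) := by ring
          _ ≤ 81 * (q + 1) ^ 8 := Nat.mul_le_mul_left _ ha4
          _ ≤ 1024 * q ^ 8 := h1.le
          _ ≤ 1024 * (4 * ((q ^ 8 + 3) / 4)) := Nat.mul_le_mul_left _ h4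
          _ = _ := by ring
      exact Nat.le_of_mul_le_mul_left h5 (by norm_num)
    · have hs3 := pow_three_le hj.ne'
      refine meet3_of_num_sq hT hm6 hb ?_
      have := num_ineq (C := 81) (A := 12) (B := 8) (M := 6) (D := 4096) (s₀ := 3) (b := 5) (by norm_num)
        (by norm_num) (by norm_num) (by norm_num) (by norm_num) hs3 hq5
      have h5 : 256 * (3 ^ j * ((a3 q * 3 ^ j) ^ 2 * 3)) ^ 4 ≤ 256 * (16 * (q ^ 3 ^ j) ^ 6) := by
        calc 256 * (3 ^ j * ((a3 q * 3 ^ j) ^ 2 * 3)) ^ 4 = 81 * (3 ^ j) ^ 12 * (256 * a3 q ^ 8) := by ring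
          _ ≤ 81 * (3 ^ j) ^ 12 * (q + 1) ^ 8 := Nat.mul_le_mul_left _ ha4
          _ ≤ 4096 * q ^ (6 * 3 ^ j) := this.le
          _ = _ := by rw [← pow_mul, mul_comm (3 ^ j) 6]; ring
      exact Nat.le_of_mul_le_mul_left h5 (by norm_num)

/-- The index bound `q ^ 6 / 2` for `F₄(q)`. -/
theorem F4_twelve_le {F : Type} [Field F] [Fintype F] (hs : IsSimpleGroup ↥(chevF4.group F))
    (h2F : 2 ∣ Fintype.card F) (H : Subgroup ↥(chevF4.group F)) (hH : H ≠ ⊤) :
    (Fintype.card F) ^ 12 ≤ 4 * H.index ^ 2 := by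
  have : Finite (GL chevF4.Idx F) := inferInstance
  have hq : 2 ≤ Fintype.card F := Fintype.one_lt_card
  obtain ⟨m, hm⟩ := h2F
  rcases Cfsg.Agent.H934.HeisChev.bound Cfsg.Agent.H599.IdxF4.hD Cfsg.Agent.H599.IdxF4.tab
    Cfsg.Agent.H599.IdxF4.tab_ok (by norm_num) (MonoidHom.id ↥(chevF4.group F)) Function.injective_id hH m
    (Or.inr (by omega)) with h | h
  · have h1 := Nat.pow_le_pow_left h 2
    calc (Fintype.card F) ^ 12 ≤ Fintype.card F ^ 18 := Nat.pow_le_pow_right (by omega) (by norm_num)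
      _ = (Fintype.card F ^ (8 + 1)) ^ 2 := by ring
      _ ≤ H.index ^ 2 := h1
      _ ≤ _ := by omega
  · calc (Fintype.card F) ^ 12 = (Fintype.card F) ^ 2 * Fintype.card F ^ 10 := by ring
      _ = 4 * (m ^ 2 * Fintype.card F ^ (8 + 2)) := by
          have : (Fintype.card F) ^ 2 = 4 * m ^ 2 := by rw [hm]; ring
          rw [this]
          ring
      _ ≤ _ := Nat.mul_le_mul_left _ h

/-- **`F₄(q)`, `p = 3 ∤ q`, all but `q = 2, 8`.** -/
theorem cross3_F4_of {F : Type} [Field F] [Fintype F] (h3F : ¬ 3 ∣ Fintype.card F)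
    (hspec2 : Fintype.card F = 2 → Meet 3 ↥(chevF4.group F))
    (hspec8 : Fintype.card F = 8 → Meet 3 ↥(chevF4.group F)) : Meet 3 ↥(chevF4.group F) := by
  classical
  have : Finite (GL chevF4.Idx F) := inferInstance
  obtain ⟨hs, hT⟩ := Cfsg.Agent.S1054.result (F := F) chevF4 (by simp)
  obtain ⟨ℓ, f, q, j, f', hℓ, hch, hf, hf', hf0, hFc, hqd, hFq, hpq, hq2⟩ := exists_split (p := 3) F h3F
  have : Fact ℓ.Prime := ⟨hℓ⟩
  have hout := Cfsg.Agent.S2122.result ℓ f hFc
  have hv : padicValNat 3 (Nat.card (Cfsg.Out ↥(chevF4.group F))) = j := by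
    refine hout1 (p := 3) (not_dvd_of_lt (Nat.gcd_pos_of_pos_left _ (by norm_num)) ?_) hf hf' hout
    have := Nat.gcd_le_left ℓ (show 0 < 2 by norm_num)
    omega
  have h3 := three_ne_zero_of h3F
  have hb := bound3 hpq hq2 (ds := [2, 6, 8, 12]) (by simp) (by decide) (card_dvd deg_F4 hFq) hv
  have hv3 : 3 ^ padicValNat 3 ([2, 6, 8, 12] : List ℕ).prod = 9 := by
    have h1 : ([2, 6, 8, 12] : List ℕ).prod = 128 * 3 ^ 2 := by norm_num
    rw [h1, padicValNat.mul (by norm_num) (by norm_num), padicValNat.prime_pow,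
      padicValNat.eq_zero_of_not_dvd (by norm_num)]
    norm_num
  rw [hv3] at hb
  simp only [List.length_cons, List.length_nil, zero_add, one_add_one_eq_two, Nat.reduceAdd] at hb
  rcases parity hℓ hqd hf' hpq hq2 with ⟨he, ha⟩ | ⟨ho, hq5, ha⟩
  · -- even `q`
    rw [ha] at hb
    have h2F : 2 ∣ Fintype.card F := by
      rw [hFq, he, ← pow_mul]
      exact dvd_pow_self _ (Nat.mul_pos hf0 (pow_pos (by norm_num) _)).ne'
    have hm12 : ∀ H : Subgroup ↥(chevF4.group F), H ≠ ⊤ → ((q ^ 3 ^ j) ^ 12 + 3) / 4 ≤ H.index ^ 2 := fun H hH => by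
      have := F4_twelve_le hs h2F H hH
      rw [hFq] at this
      omega
    rcases Nat.eq_zero_or_pos j with hj | hj
    · subst hj
      simp only [pow_zero, pow_one, mul_one, one_mul] at hb hm12 hFq
      by_cases h1 : 3 ∣ Fintype.card F - 1
      · obtain ⟨φ, hφ, hker, -⟩ := Cfsg.Agent.S1039.result (F := F) (chevF4, ⟨4, CoxeterMatrix.F₄⟩) (by simp)
        have hW := Cfsg.Agent.S1092.result (⟨4, CoxeterMatrix.F₄⟩, 1152) (by simp)
        refine meet_of_index_NG deg_F4.mem hT (not_dvd_of_v Nat.card_pos.ne' hv) ?_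
        exact not_dvd_index_NG deg_F4 (by simp) (by decide) (by norm_num) h1 φ hφ hker (by rw [hW]; norm_num)
      · -- `q = 2` or `q ≥ 32`
        rcases Nat.lt_or_ge f' 3 with h | h
        · interval_cases f'
          · exact hspec2 (by rw [hFq, he]; norm_num)
          · rw [he] at hFq; rw [hFq] at h1; exact absurd (by norm_num) h1
        · have h4 : 4 ≤ f' := by omega
          have h16 : 16 ≤ q := by
            rw [he]
            exact Nat.pow_le_pow_right (n := 2) (by norm_num) h4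
          refine meet3_of_num_sq hT hm12 hb ?_
          have h5 : (16 : ℕ) ^ 12 ≤ q ^ 12 := Nat.pow_le_pow_left h16 12
          have h6 : (3 ^ 4 * 9) ^ 4 ≤ 4 * 16 ^ 12 := by norm_num
          omega
    · have hs3 := pow_three_le hj.ne'
      have e1 : (3 ^ j * ((3 * 3 ^ j) ^ 4 * 9)) ^ 4 = 3 ^ 24 * (3 ^ j) ^ 20 := by ring
      have e2 : 4 * (q ^ 3 ^ j) ^ 12 = 4 * q ^ (12 * 3 ^ j) := by rw [← pow_mul, mul_comm (3 ^ j) 12]
      rcases Nat.lt_or_ge q 4 with h4 | h4
      · have hq : q = 2 := by omega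
        subst hq
        rcases Nat.lt_or_ge j 2 with hj2 | hj2
        · have hj1 : j = 1 := by omega
          subst hj1
          exact hspec8 (by rw [hFq]; norm_num)
        · have hs9 : 9 ≤ 3 ^ j := by
            calc 9 = 3 ^ 2 := by norm_num
              _ ≤ 3 ^ j := Nat.pow_le_pow_right (by norm_num) hj2
          refine meet3_of_num_sq hT hm12 hb ?_
          have := num_ineq (C := 3 ^ 24) (A := 20) (B := 0) (M := 12) (D := 4) (s₀ := 9) (b := 2) (by norm_num)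
            (by norm_num) (by norm_num) (by norm_num) (by norm_num) hs9 le_rfl
          rw [e1]
          rw [pow_zero, mul_one, ← e2] at this
          omega
      · refine meet3_of_num_sq hT hm12 hb ?_
        have := num_ineq (C := 3 ^ 24) (A := 20) (B := 0) (M := 12) (D := 4) (s₀ := 3) (b := 4) (by norm_num)
          (by norm_num) (by norm_num) (by norm_num) (by norm_num) hs3 h4
        rw [e1]
        rw [pow_zero, mul_one, ← e2] at this
        omega
  · -- odd `q`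
    have h2 : (2 : F) ≠ 0 := two_ne_zero_of (by
      rw [hFq]
      exact fun h => ho (Nat.prime_two.dvd_of_dvd_pow h))
    have hm16 : ∀ H : Subgroup ↥(chevF4.group F), H ≠ ⊤ → (q ^ 3 ^ j) ^ 16 ≤ H.index ^ 2 := fun H hH => by
      have := Cfsg.Agent.H934.HeisF4G2.sq_le_F4 h2 hs H hH
      rwa [hFq] at this
    have ha4 : 65536 * a3 q ^ 16 ≤ (q + 1) ^ 16 := by
      calc 65536 * a3 q ^ 16 = (2 * a3 q) ^ 16 := by ring
        _ ≤ _ := Nat.pow_le_pow_left ha 16
    refine meet3_of_num_sq hT hm16 hb ?_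
    have hs1 : 1 ≤ 3 ^ j := Nat.one_le_pow _ _ (by norm_num)
    have := num_ineq (C := 6561) (A := 20) (B := 16) (M := 16) (D := 1048576) (s₀ := 1) (b := 5) (by norm_num)
        (by norm_num) (by norm_num) (by norm_num) (by norm_num) hs1 hq5
    have h5 : 65536 * (3 ^ j * ((a3 q * 3 ^ j) ^ 4 * 9)) ^ 4 ≤ 65536 * (16 * (q ^ 3 ^ j) ^ 16) := by
      calc 65536 * (3 ^ j * ((a3 q * 3 ^ j) ^ 4 * 9)) ^ 4 = 6561 * (3 ^ j) ^ 20 * (65536 * a3 q ^ 16) := by ring
        _ ≤ 6561 * (3 ^ j) ^ 20 * (q + 1) ^ 16 := Nat.mul_le_mul_left _ ha4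
        _ ≤ 1048576 * q ^ (16 * 3 ^ j) := this.le
        _ = _ := by rw [← pow_mul, mul_comm (3 ^ j) 16]; ring
    exact Nat.le_of_mul_le_mul_left h5 (by norm_num)

end Cfsg.Agent.H172.S3
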