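import Cfsg.Agent.H172.SIChev
import Cfsg.Agent.H934.HeisTwD4
import Cfsg.Agent.H934.HeisTwE6
import Cfsg.Agent.S1066
import Cfsg.Agent.S1067
import Cfsg.Agent.S1070
import Cfsg.Agent.S1071
import Cfsg.Agent.S2129
import Cfsg.Agent.S2130

/-!
helper172, for S5762: `³D₄(q)` in cross characteristic, and `²E₆(q)` except `p = 5 ∣ q + 1`.
-/

set_option autoImplicit false

namespace Cfsg.Agent.H172.SI

open Cfsg.Lie Cfsg.Agent.H903.SylMeet Cfsg.Agent.ChevalleyStructure Cfsg.Agent.ChevalleyStructure.Elts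

variable {p : ℕ} [hp : Fact p.Prime]

theorem gen_le {D : ChevalleyDatum} (hD : InList D) (K : Type*) [Field K] (W : Set (List (ℕ × K))) :
    D.genSubgroup K W ≤ D.group K := by
  unfold ChevalleyDatum.genSubgroup
  rw [Subgroup.closure_le]
  rintro g ⟨w, -, hg⟩
  rw [(eq_wordG_iff hD g w).2 hg]
  exact wordG_mem_group hD w

/-- commutativity in subgroups -/
theorem Deg.comm_le {D : ChevalleyDatum} {d : ℕ → ℕ} {N : ℕ} {ds : List ℕ} (h : Deg D d N ds)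
    (hds : ∀ k ∈ ds, ¬ p ∣ k) {F : Type} [Field F] [Fintype F] (hpF : ¬ p ∣ Fintype.card F)
    {X : Subgroup (GL D.Idx F)} (hX : X ≤ D.group F)
    (Q : Subgroup ↥X) (hQ : IsPGroup p Q) : ∀ a ∈ Q, ∀ b ∈ Q, a * b = b * a := by
  intro a ha b hb
  have h1 := h.comm hds hpF (Q.map (Subgroup.inclusion hX)) (hQ.map _) _ (Subgroup.mem_map_of_mem _ ha) _
    (Subgroup.mem_map_of_mem _ hb)
  rw [← map_mul, ← map_mul] at h1
  exact Subgroup.inclusion_injective hX h1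

theorem split_q {q : ℕ} (hq : IsPrimePow q) (hpq : ¬ p ∣ q) :
    ∃ (ℓ f q₁ j f' : ℕ), ℓ.Prime ∧ f = p ^ j * f' ∧ ¬ p ∣ f' ∧ 0 < f' ∧ 1 ≤ f ∧ q = ℓ ^ f ∧
      q₁ = ℓ ^ f' ∧ q = q₁ ^ p ^ j ∧ ¬ p ∣ q₁ ∧ 2 ≤ q₁ := by
  rw [isPrimePow_nat_iff] at hq
  obtain ⟨ℓ, f, hℓ, hf, rfl⟩ := hq
  obtain ⟨j, f', hf', hnf⟩ := Nat.exists_eq_pow_mul_and_not_dvd hf.ne' p hp.out.ne_one
  have hf0 : 0 < f' := by
    rcases Nat.eq_zero_or_pos f' with h | h
    · exact absurd (h ▸ dvd_zero p) hf'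
    · exact h
  have hq : ℓ ^ f = (ℓ ^ f') ^ p ^ j := by rw [← pow_mul, hnf, mul_comm]
  refine ⟨ℓ, f, ℓ ^ f', j, f', hℓ, hnf, hf', hf0, hf, rfl, rfl, hq, ?_, ?_⟩
  · intro h
    apply hpq
    rw [hq]
    exact h.trans (dvd_pow_self _ (pow_pos hp.out.pos _).ne')
  · calc 2 ≤ ℓ := hℓ.two_le
      _ ≤ ℓ ^ f' := Nat.le_self_pow hf0.ne' _

theorem charP_of_card {K : Type*} [Field K] [Fintype K] {ℓ n : ℕ} (hℓ : ℓ.Prime) (_ : 1 ≤ n)
    (h : Fintype.card K = ℓ ^ n) : CharP K ℓ := by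
  obtain ⟨r, hr⟩ := CharP.exists K
  obtain ⟨m, hrp, hm⟩ := FiniteField.card K r
  have h1 : r ∣ ℓ ^ n := by rw [← h, hm]; exact dvd_pow_self _ m.pos.ne'
  have h2 := (Nat.prime_dvd_prime_iff_eq hrp hℓ).1 (hrp.dvd_of_dvd_pow h1)
  rwa [h2] at hr

theorem cross_3D4 {K : Type} [Field K] [Fintype K] (q : ℕ) (hq : IsPrimePow q) (hK : Fintype.card K = q ^ 3)
    (hp5 : 5 ≤ p) (hpK : ¬ p ∣ q) : Meet p ↥(twistedD4 K q) := by
  classical
  have : Finite (GL chevD4.Idx K) := inferInstance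
  obtain ⟨hs, hT⟩ := Cfsg.Agent.S1071.result hq hK
  obtain ⟨ℓ, f, q₁, j, f', hℓ, hf, hf', hf0, hf1, rfl, hqd, hFq, hpq, hq2⟩ := split_q hq hpK
  have : Fact ℓ.Prime := ⟨hℓ⟩
  have hK3 : Fintype.card K = ℓ ^ (3 * f) := by rw [hK, ← pow_mul, mul_comm]
  have : CharP K ℓ := charP_of_card hℓ (by omega) hK3
  have hout := Cfsg.Agent.S2129.result ℓ f hK3 hf1
  have hv : padicValNat p (Nat.card (Cfsg.Out ↥(twistedD4 K (ℓ ^ f)))) = j := by
    rw [hout]
    exact v_mul_coprime (not_dvd_of_lt (by norm_num) (by omega)) hf hf'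
  have hnd' : ∀ k ∈ [2, 4, 4, 6], ¬ p ∣ k := fun k hk => ndvd_of [2, 3] (by decide) (by simp; omega) k hk
    (by fin_cases hk <;> norm_num)
  have hnd : ∀ k ∈ [2, 6, 12], ¬ p ∣ k := fun k hk => ndvd_of [2, 3] (by decide) (by simp; omega) k hk
    (by fin_cases hk <;> norm_num)
  rcases Nat.eq_zero_or_pos j with hj | hj
  · refine meet_of_comm_sub hT (not_dvd_of_v Nat.card_pos.ne' (by rw [hv, hj]))
      (fun Q hQ => deg_D4.comm_le hnd' ?_ (gen_le (by simp [InList]) K _) Q hQ)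
    rw [hK]
    exact fun h => hpK (hp.out.dvd_of_dvd_pow h)
  have hcd : Nat.card ↥(twistedD4 K (ℓ ^ f)) ∣ (q₁ ^ p ^ j) ^ 12 * pr (q₁ ^ p ^ j) [2, 6, 12] := by
    rw [← hFq]
    have h1 := Cfsg.Agent.S1067.result hq hK
    refine ⟨(ℓ ^ f) ^ 4 - 1, ?_⟩
    rw [h1]
    have h2 : ((ℓ ^ f) ^ 8 + (ℓ ^ f) ^ 4 + 1) * ((ℓ ^ f) ^ 4 - 1) = (ℓ ^ f) ^ 12 - 1 := by
      have h3 : 1 ≤ (ℓ ^ f) ^ 4 := Nat.one_le_pow _ _ (pow_pos hℓ.pos _)
      obtain ⟨x, hx⟩ := Nat.exists_eq_add_of_le h3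
      have h4 : (ℓ ^ f) ^ 8 = ((ℓ ^ f) ^ 4) ^ 2 := by ring
      have h5 : (ℓ ^ f) ^ 12 = ((ℓ ^ f) ^ 4) ^ 3 := by ring
      rw [h4, h5, hx, Nat.add_sub_cancel_left]
      have h6 : (1 + x) ^ 3 = ((1 + x) ^ 2 + (1 + x) + 1) * x + 1 := by ring
      rw [h6, Nat.add_sub_cancel]
    have h7 : pr (ℓ ^ f) [2, 6, 12] = ((ℓ ^ f) ^ 2 - 1) * ((ℓ ^ f) ^ 6 - 1) * ((ℓ ^ f) ^ 12 - 1) := by
      simp [pr, mul_assoc]
    rw [h7, ← h2]
    ring
  have hb := vbound (odd_of_five hp5) hpq hq2 (ds := [2, 6, 12]) (by simp) hcd hv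
  rw [wt_zero_of hnd, pow_zero] at hb
  have hs5 : 5 ≤ p ^ j := five_le_pow hp5 hj.ne'
  have he0 := order_pos hpq
  have hm : ∀ H : Subgroup ↥(twistedD4 K (ℓ ^ f)), H ≠ ⊤ → (q₁ ^ p ^ j) ^ 10 ≤ H.index ^ 2 := fun H hH => by
    rw [← hFq]
    exact Cfsg.Agent.H934.HeisTwD4.bound_3D4 hq hK hs H hH
  have hm0 : 0 < (q₁ ^ p ^ j) ^ 10 := by positivity
  set e := orderOf (q₁ : ZMod p) with he
  have hpow : 256 * (q₁ ^ p ^ j) ^ 10 = 256 * q₁ ^ (10 * p ^ j) := by rw [← pow_mul, mul_comm (p ^ j) 10]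
  rcases Nat.lt_or_ge 2 e with h3 | h3
  · have hn := nm_check (ds := [2, 6, 12]) (M := 12) (by decide)
      (fun e n => 2 < e → n ≤ 2 ∧ Nat.totient e * n ≤ 4) (fun e _ => by simp) (by decide) e he0 h3
    refine meet_of_num_sq hp5 hT hm (hb.trans (bound_le' (by omega) hn.1 hn.2 le_rfl)) ?_ hm0
    have := num_ineq (C := 1) (A := 12) (B := 16) (M := 10) (D := 256) (s₀ := 5) (b := 2) (by norm_num) (by norm_num)
      (by norm_num) (by norm_num) (by norm_num) hs5 hq2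
    rw [hpow]
    calc (1 * (p ^ j) ^ (2 + 1) * (q₁ + 1) ^ 4) ^ 4 = 1 * (p ^ j) ^ 12 * (q₁ + 1) ^ 16 := by ring
      _ ≤ _ := this.le
  · have hn := nm_check (ds := [2, 6, 12]) (M := 12) (by decide)
      (fun e n => e ≤ 2 → n ≤ 3 ∧ Nat.totient e * n ≤ 3) (fun e _ => by simp) (by decide) e he0 h3
    refine meet_of_num_sq hp5 hT hm (hb.trans (bound_le' (by omega) hn.1 hn.2 le_rfl)) ?_ hm0
    have := num_ineq (C := 1) (A := 16) (B := 12) (M := 10) (D := 256) (s₀ := 5) (b := 2) (by norm_num) (by norm_num)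
      (by norm_num) (by norm_num) (by norm_num) hs5 hq2
    rw [hpow]
    calc (1 * (p ^ j) ^ (3 + 1) * (q₁ + 1) ^ 3) ^ 4 = 1 * (p ^ j) ^ 16 * (q₁ + 1) ^ 12 := by ring
      _ ≤ _ := this.le

/-- `²E₆(q)`, all but `p = 5 ∣ q + 1`, `5 ∤ f`. -/
theorem cross_2E6_of {K : Type} [Field K] [Fintype K] (q : ℕ) (hq : IsPrimePow q) (hK : Fintype.card K = q ^ 2)
    (hp5 : 5 ≤ p) (hpK : ¬ p ∣ q) (hspec : p = 5 → 5 ∣ q + 1 →
      ¬ p ∣ Nat.card (Cfsg.Out ↥(twistedE6 K q)) → Meet p ↥(twistedE6 K q)) : Meet p ↥(twistedE6 K q) := by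
  classical
  have : Finite (GL chevE6.Idx K) := inferInstance
  obtain ⟨hs, hT⟩ := Cfsg.Agent.S1070.result hq hK
  obtain ⟨ℓ, f, q₁, j, f', hℓ, hf, hf', hf0, hf1, rfl, hqd, hFq, hpq, hq2⟩ := split_q hq hpK
  have : Fact ℓ.Prime := ⟨hℓ⟩
  have hK3 : Fintype.card K = ℓ ^ (2 * f) := by rw [hK, ← pow_mul, mul_comm]
  have : CharP K ℓ := charP_of_card hℓ (by omega) hK3
  have hout := Cfsg.Agent.S2130.result ℓ f hK3 hf1
  have hv : padicValNat p (Nat.card (Cfsg.Out ↥(twistedE6 K (ℓ ^ f)))) = j := by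
    rw [hout]
    refine v_mul_coprime ?_ hf hf'
    have h3 : Nat.gcd 3 (ℓ ^ f + 1) ∣ 3 := Nat.gcd_dvd_left _ _
    intro hd
    have h6 : p ∣ 2 * 3 := hd.trans (Nat.mul_dvd_mul_left 2 h3)
    rcases (Nat.Prime.dvd_mul hp.out).1 h6 with h | h
    · exact not_dvd_of_lt (by norm_num) (by omega) h
    · exact not_dvd_of_lt (by norm_num) (by omega) h
  have hqpos : 1 ≤ ℓ ^ f := pow_pos hℓ.pos _
  have hcard := Cfsg.Agent.S1066.result hq hK
  have hpow1 : ∀ k : ℕ, ((ℓ ^ f) ^ k + 1) * ((ℓ ^ f) ^ k - 1) = (ℓ ^ f) ^ (2 * k) - 1 := by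
    intro k
    have := Nat.sq_sub_sq ((ℓ ^ f) ^ k) 1
    rw [one_pow, ← pow_mul, mul_comm k 2] at this
    exact this.symm
  have hm : ∀ H : Subgroup ↥(twistedE6 K (ℓ ^ f)), H ≠ ⊤ → (q₁ ^ p ^ j) ^ 22 ≤ H.index ^ 2 := fun H hH => by
    rw [← hFq]
    exact Cfsg.Agent.H934.HeisTwE6.bound_2E6 hq hK hs H hH
  have hm0 : 0 < (q₁ ^ p ^ j) ^ 22 := by positivity
  have hcd : Nat.card ↥(twistedE6 K (ℓ ^ f)) ∣ (q₁ ^ p ^ j) ^ 36 * pr (q₁ ^ p ^ j) [2, 6, 8, 10, 12, 18] := by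
    rw [← hFq]
    refine ⟨Nat.gcd 3 (ℓ ^ f + 1) * (((ℓ ^ f) ^ 5 - 1) * ((ℓ ^ f) ^ 9 - 1)), ?_⟩
    have h7 : pr (ℓ ^ f) [2, 6, 8, 10, 12, 18] = ((ℓ ^ f) ^ 2 - 1) * ((ℓ ^ f) ^ 6 - 1) * ((ℓ ^ f) ^ 8 - 1) *
        ((ℓ ^ f) ^ (2 * 5) - 1) * ((ℓ ^ f) ^ 12 - 1) * ((ℓ ^ f) ^ (2 * 9) - 1) := by
      simp [pr, mul_assoc]
    rw [h7, ← hpow1, ← hpow1]
    calc _ = ((ℓ ^ f) ^ 36 * ((ℓ ^ f) ^ 2 - 1) * ((ℓ ^ f) ^ 5 + 1) * ((ℓ ^ f) ^ 6 - 1) * ((ℓ ^ f) ^ 8 - 1) *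
        ((ℓ ^ f) ^ 9 + 1) * ((ℓ ^ f) ^ 12 - 1)) * (((ℓ ^ f) ^ 5 - 1) * ((ℓ ^ f) ^ 9 - 1)) := by ring
      _ = _ := by rw [← hcard]; ring
  rcases Nat.eq_zero_or_pos j with hj | hj
  · subst hj
    simp only [pow_zero, pow_one] at hFq hm hcd hm0
    subst hFq
    by_cases h57 : p = 5
    · have hed := order_dvd hpq
      have he0 := order_pos hpq
      have h1q : orderOf ((ℓ ^ f : ℕ) : ZMod p) = 1 → p ∣ ℓ ^ f - 1 := fun h => by
        have := (dvd_iff_order (p := p) (q := ℓ ^ f) (k := 1) (by omega)).2 (by rw [h])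
        rwa [pow_one] at this
      have h2q : orderOf ((ℓ ^ f : ℕ) : ZMod p) = 2 → p ∣ ℓ ^ f + 1 := fun h => by
        have h1 := (dvd_iff_order (p := p) (q := ℓ ^ f) (k := 2) (by omega)).2 (by rw [h])
        have h3 : ¬ p ∣ ℓ ^ f - 1 := fun h4 => by
          have h5 := (dvd_iff_order (p := p) (q := ℓ ^ f) (k := 1) (by omega)).1 (by rwa [pow_one])
          rw [h] at h5
          exact absurd h5 (by norm_num)
        have h6 := hpow1 1
        rw [pow_one, mul_one] at h6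
        rw [← h6] at h1
        exact ((Nat.Prime.dvd_mul hp.out).1 h1).resolve_right h3
      -- the numeric case
      have hnum : ∀ ds : List ℕ, (∀ k ∈ ds, 0 < k) → (∀ k ∈ ds, ¬ p ∣ k ∨ ¬ orderOf ((ℓ ^ f : ℕ) : ZMod p) ∣ k) →
          padicValNat p (Nat.card ↥(twistedE6 K (ℓ ^ f))) ≤ padicValNat p (pr (ℓ ^ f) ds) →
          Nat.totient (orderOf ((ℓ ^ f : ℕ) : ZMod p)) * nm (orderOf ((ℓ ^ f : ℕ) : ZMod p)) ds ≤ 4 →
          Meet p ↥(twistedE6 K (ℓ ^ f)) := by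
        intro ds hds hds2 hval hφ
        have hb := pow_v_pr_le (odd_of_five hp5) (j := 0) hpq hq2 ds hds
        rw [pow_zero, pow_one, one_mul, ← pow_mul] at hb
        have hw : ∀ es : List ℕ, (∀ k ∈ es, ¬ p ∣ k ∨ ¬ orderOf ((ℓ ^ f : ℕ) : ZMod p) ∣ k) →
            wt p (orderOf ((ℓ ^ f : ℕ) : ZMod p)) es = 0 := by
          intro es
          induction es with
          | nil => intro _; rfl
          | cons k es ih =>
            intro h
            rw [wt, ih fun k hk => h k (by simp [hk]), add_zero]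
            split_ifs with h1
            · exact padicValNat.eq_zero_of_not_dvd ((h k (by simp)).resolve_right (by simpa using h1))
            · rfl
        rw [hw ds hds2, pow_zero, mul_one] at hb
        have hb2 : p ^ (padicValNat p (Nat.card ↥(twistedE6 K (ℓ ^ f))) +
            padicValNat p (Nat.card (Cfsg.Out ↥(twistedE6 K (ℓ ^ f))))) ≤ (ℓ ^ f + 1) ^ 4 := by
          rw [hv, add_zero]
          exact (Nat.pow_le_pow_right hp.out.pos hval).trans (hb.trans (Nat.pow_le_pow_right (by omega) hφ))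
        refine meet_of_num_sq hp5 hT hm hb2 ?_ hm0
        have := num_ineq (C := 1) (A := 0) (B := 16) (M := 22) (D := 256) (s₀ := 1) (b := 2) (by norm_num)
          (by norm_num) (by norm_num) (by norm_num) (by norm_num) le_rfl hq2
        calc ((ℓ ^ f + 1) ^ 4) ^ 4 = 1 * 1 ^ 0 * (ℓ ^ f + 1) ^ 16 := by ring
          _ ≤ 256 * (ℓ ^ f) ^ (22 * 1) := this.le
          _ = _ := by ring
      -- valuation of the order
      have hval0 : padicValNat p (Nat.card ↥(twistedE6 K (ℓ ^ f))) ≤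
          padicValNat p ((ℓ ^ f) ^ 2 - 1) + padicValNat p ((ℓ ^ f) ^ 5 + 1) + padicValNat p ((ℓ ^ f) ^ 6 - 1) +
          padicValNat p ((ℓ ^ f) ^ 8 - 1) + padicValNat p ((ℓ ^ f) ^ 9 + 1) + padicValNat p ((ℓ ^ f) ^ 12 - 1) := by
        have hz : ∀ k : ℕ, 0 < k → (ℓ ^ f) ^ k - 1 ≠ 0 := fun k hk => by
          have : 1 < (ℓ ^ f) ^ k := Nat.one_lt_pow hk.ne' (by omega)
          omega
        have h2 : padicValNat p (Nat.card ↥(twistedE6 K (ℓ ^ f))) ≤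
            padicValNat p (Nat.gcd 3 (ℓ ^ f + 1) * Nat.card ↥(twistedE6 K (ℓ ^ f))) := by
          rw [padicValNat.mul (Nat.gcd_pos_of_pos_left _ (by norm_num)).ne' Nat.card_pos.ne']
          omega
        rw [hcard] at h2
        have h36 : padicValNat p ((ℓ ^ f) ^ 36) = 0 :=
          padicValNat.eq_zero_of_not_dvd fun h => hpq (hp.out.dvd_of_dvd_pow h)
        have z2 := hz 2 (by norm_num)
        have z6 := hz 6 (by norm_num)
        have z8 := hz 8 (by norm_num)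
        have z12 := hz 12 (by norm_num)
        rw [padicValNat.mul (by positivity) z12, padicValNat.mul (by positivity) (by positivity),
          padicValNat.mul (by positivity) z8, padicValNat.mul (by positivity) z6,
          padicValNat.mul (by positivity) (by positivity), padicValNat.mul (by positivity) z2, h36] at h2
        omega
      subst h57
      generalize heq : orderOf ((ℓ ^ f : ℕ) : ZMod 5) = e at *
      have hele := Nat.le_of_dvd (by norm_num) hed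
      interval_cases e
      · -- `5 ∣ q - 1`
        have hmod : ℓ ^ f % 5 = 1 := by have := h1q rfl; omega
        have hk : ∀ k : ℕ, padicValNat 5 ((ℓ ^ f) ^ k + 1) = 0 := fun k => by
          apply padicValNat.eq_zero_of_not_dvd
          intro h
          have h1 : ((ℓ ^ f) ^ k + 1) % 5 = 2 := by
            rw [Nat.add_mod, Nat.pow_mod, hmod, one_pow]
            norm_num
          omega
        refine hnum [2, 6, 8, 12] (by simp) (by decide) ?_ (by decide)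
        rw [hk, hk] at hval0
        refine hval0.trans (le_of_eq ?_)
        have hz : ∀ k : ℕ, 0 < k → (ℓ ^ f) ^ k - 1 ≠ 0 := fun k hk => by
          have : 1 < (ℓ ^ f) ^ k := Nat.one_lt_pow hk.ne' (by omega)
          omega
        have h7 : pr (ℓ ^ f) [2, 6, 8, 12] = ((ℓ ^ f) ^ 2 - 1) * ((ℓ ^ f) ^ 6 - 1) * ((ℓ ^ f) ^ 8 - 1) *
            ((ℓ ^ f) ^ 12 - 1) := by simp [pr, mul_assoc]
        have z2 := hz 2 (by norm_num)
        have z6 := hz 6 (by norm_num)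
        have z8 := hz 8 (by norm_num)
        have z12 := hz 12 (by norm_num)
        rw [h7, padicValNat.mul (mul_ne_zero (mul_ne_zero z2 z6) z8) z12, padicValNat.mul (mul_ne_zero z2 z6) z8,
          padicValNat.mul z2 z6]
        omega
      · exact hspec rfl (h2q rfl) (not_dvd_of_v Nat.card_pos.ne' hv)
      · exact absurd hed (by norm_num)
      · refine hnum [2, 6, 8, 10, 12, 18] (by simp) (by decide) ?_ (by decide)
        have h2 : padicValNat 5 (Nat.card ↥(twistedE6 K (ℓ ^ f))) ≤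
            padicValNat 5 ((ℓ ^ f) ^ 36 * pr (ℓ ^ f) [2, 6, 8, 10, 12, 18]) := by
          rw [← Nat.factorization_def _ hp.out, ← Nat.factorization_def _ hp.out]
          exact (Nat.factorization_le_iff_dvd Nat.card_pos.ne'
            (mul_ne_zero (by positivity) (pr_ne_zero hq2 (by simp)))).2 hcd 5
        have h36 : padicValNat 5 ((ℓ ^ f) ^ 36) = 0 :=
          padicValNat.eq_zero_of_not_dvd fun h => hpq (hp.out.dvd_of_dvd_pow h)
        rwa [padicValNat.mul (by positivity) (pr_ne_zero hq2 (by simp)), h36, zero_add] at h2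
    · refine meet_of_comm_sub hT (not_dvd_of_v Nat.card_pos.ne' hv)
        (fun Q hQ => deg_E6.comm_le (fun k hk => ndvd_of [2, 3, 5] (by decide) (by simp; omega) k hk
          (by fin_cases hk <;> norm_num)) ?_ (gen_le (by simp [InList]) K _) Q hQ)
      rw [hK]
      exact fun h => hpK (hp.out.dvd_of_dvd_pow h)
  · have hb := vbound (odd_of_five hp5) hpq hq2 (ds := [2, 6, 8, 10, 12, 18]) (by simp) hcd hv
    have hs5 : 5 ≤ p ^ j := five_le_pow hp5 hj.ne'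
    have he0 := order_pos hpq
    have hn := nm_check (ds := [2, 6, 8, 10, 12, 18]) (M := 18) (by decide)
      (fun e n => n ≤ 6 ∧ Nat.totient e * n ≤ 6) (fun e => by simp) (by decide) _ he0
    have hw : p ^ wt p (orderOf (q₁ : ZMod p)) [2, 6, 8, 10, 12, 18] ≤ 5 :=
      (Nat.pow_le_pow_right hp.out.pos (wt_le _ _ (by simp))).trans
        (pow_v_le_of (a := 9) (b := 4) (c := 5) hp5 (by norm_num) (by norm_num))
    refine meet_of_num_sq hp5 hT hm (hb.trans (bound_le (by omega) hn.1 hn.2 hw)) ?_ hm0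
    have := num_ineq (C := 625) (A := 28) (B := 24) (M := 22) (D := 256) (s₀ := 5) (b := 2) (by norm_num)
      (by norm_num) (by norm_num) (by norm_num) (by norm_num) hs5 hq2
    calc (5 * (p ^ j) ^ (6 + 1) * (q₁ + 1) ^ 6) ^ 4 = 625 * (p ^ j) ^ 28 * (q₁ + 1) ^ 24 := by ring
      _ ≤ 256 * q₁ ^ (22 * p ^ j) := this.le
      _ = _ := by rw [← pow_mul, mul_comm (p ^ j) 22]

end Cfsg.Agent.H172.SI
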