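import Mathlib
import Cfsg.Agent.H172.S3Tw
import Cfsg.Agent.H134.Syl.F4TwoMain

/-!
helper172, for S2484 / S5760: `F₄(q)`, `3 ∤ q`, `p = 3`.
-/

set_option autoImplicit false

namespace Cfsg.Agent.H172.S3

open Cfsg.Lie Cfsg.Agent.H903.SylMeet

/-- `F₄(q)` in characteristic `≠ 3` satisfies `Meet 3` -/
theorem cross3_F4 {F : Type} [Field F] [Fintype F] (h3F : ¬ 3 ∣ Fintype.card F) : Meet 3 ↥(chevF4.group F) :=
  cross3_F4_of h3F (fun h => Cfsg.Agent.H134.Syl.F4.meet3_F4_two h) (fun h => meet3_F4_eight h)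

end Cfsg.Agent.H172.S3
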