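import Cfsg.Agent.H172.S3Main
import Cfsg.Agent.H134.Syl.Main8

/-!
# `p = 3`, cross characteristic: `G_2(q)` (helper172)
-/

set_option autoImplicit false

namespace Cfsg.Agent.H172.S3

open Cfsg.Lie Cfsg.Agent.H903.SylMeet

/-- **`Meet 3` for `G_2(q)`, `q ≥ 3` prime to `3`** -/
theorem cross3_G2 {F : Type} [Field F] [Fintype F] (hF : 3 ≤ Fintype.card F) (h3F : ¬ 3 ∣ Fintype.card F) :
    Meet 3 ↥(chevG2.group F) :=
  cross3_G2_of hF h3F fun h => Cfsg.Agent.H134.Syl.Ch8.meet3_G2_eight h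

end Cfsg.Agent.H172.S3
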