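import Mathlib
import Cfsg.Agent.H172.S3Tw
import Cfsg.Agent.H83.MeetTD4

/-!
helper172, for S2484 / S5760: `³D₄(q)`, `3 ∤ q`, `p = 3`.
-/

set_option autoImplicit false

namespace Cfsg.Agent.H172.S3

open Cfsg.Lie Cfsg.Agent.H903.SylMeet

/-- `³D₄(q)` in characteristic `≠ 3` satisfies `Meet 3` -/
theorem cross3_3D4 {K : Type} [Field K] [Fintype K] (q : ℕ) (hq : IsPrimePow q) (hK : Fintype.card K = q ^ 3)
    (h3K : ¬ 3 ∣ q) : Meet 3 ↥(twistedD4 K q) :=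
  cross3_3D4_of q hq hK h3K (fun h => by
    subst h
    exact Cfsg.Agent.H83.MeetTD4.meet3_3D4_two (by rw [hK]; norm_num))

end Cfsg.Agent.H172.S3
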