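import Mathlib
import Cfsg.Agent.H934.HeisTw

/-!
# The amplified index bound for fixed points on a special group

`TwData` for an automorphism of order 2 together with elements `Y β t = y β t * y (ρ β) (η β * φ t)` of `G`: the group
`Q0` is irreducible under the `Y β t` (`irr_tw`), and `amp_tw` is the resulting index bound.
-/

set_option autoImplicit false

namespace Cfsg.Agent.H172.SITwAmp

open MulAction Cfsg.Agent.H934.Burn Cfsg.Agent.H934.Heis Cfsg.Agent.H934.HeisData Cfsg.Agent.H934.HeisRoot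
  Cfsg.Agent.H934.HeisTw Cfsg.Agent.H934.HeisTw.TwData

section Irr

variable {Γ F ι κ : Type*} [Group Γ] [Field F] [Fintype ι] [DecidableEq ι] (R : RH Γ F ι κ)

theorem tr_two {M : Type*} [AddCommGroup M] (s : M →+ M) (v : M) : tr s 2 v = v + s v := by
  unfold tr
  rw [Finset.sum_range_succ, Finset.sum_range_succ, Finset.sum_range_zero, zero_add, Function.iterate_one]
  rfl

/-- **Irreducibility of the fixed points.** -/
theorem irr_tw {φ : F →+* F} (h2 : ∀ t, φ (φ t) = t) {b0 : F} (hb0 : b0 + φ b0 = 1) {μ : F} (hμ : φ μ ≠ μ)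
    (s : (ι → F) →+ (ι → F)) (hs : ∀ (c : F) v, s (c • v) = φ c • s v) (W : AddSubgroup (ι → F))
    (hW : ∀ β (t : F), ∀ v ∈ W, v + (t • R.N β v + s (t • R.N β v)) + (t * φ t) • R.N β (s (R.N β v)) ∈ W) :
    W = ⊥ ∨ ∀ v, s v = v → v ∈ W := by
  have hφ1 : φ 1 = 1 := map_one φ
  -- the traces
  have h3 : ∀ β (t : F), ∀ v ∈ W, t • R.N β v + s (t • R.N β v) ∈ W := by
    intro β t v hv
    have hA : ∀ t : F, t • R.N β v + s (t • R.N β v) + (t * φ t) • R.N β (s (R.N β v)) ∈ W := by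
      intro t
      have h := W.sub_mem (hW β t v hv) hv
      have e : v + (t • R.N β v + s (t • R.N β v)) + (t * φ t) • R.N β (s (R.N β v)) - v =
        t • R.N β v + s (t • R.N β v) + (t * φ t) • R.N β (s (R.N β v)) := by abel
      rwa [e] at h
    have hB : ∀ a b : F, (a * φ b + b * φ a) • R.N β (s (R.N β v)) ∈ W := by
      intro a b
      have h := W.sub_mem (W.sub_mem (hA (a + b)) (hA a)) (hA b)
      have e : (a + b) • R.N β v + s ((a + b) • R.N β v) + ((a + b) * φ (a + b)) • R.N β (s (R.N β v)) -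
          (a • R.N β v + s (a • R.N β v) + (a * φ a) • R.N β (s (R.N β v))) -
          (b • R.N β v + s (b • R.N β v) + (b * φ b) • R.N β (s (R.N β v))) =
          (a * φ b + b * φ a) • R.N β (s (R.N β v)) := by
        rw [map_add φ, add_smul, map_add s,
          show (a + b) * (φ a + φ b) = a * φ a + b * φ b + (a * φ b + b * φ a) by ring, add_smul, add_smul]
        abel
      rwa [e] at h
    have hC := hB (b0 * (t * φ t)) 1
    have e : b0 * (t * φ t) * φ 1 + 1 * φ (b0 * (t * φ t)) = t * φ t := by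
      rw [map_mul, map_mul, h2, hφ1]
      calc b0 * (t * φ t) * 1 + 1 * (φ b0 * (φ t * t)) = (b0 + φ b0) * (t * φ t) := by ring
        _ = _ := by rw [hb0, one_mul]
    rw [e] at hC
    have h := W.sub_mem (hA t) hC
    rwa [add_sub_cancel_right] at h
  let U : AddSubgroup (ι → F) :=
    { carrier := {v | ∀ l : F, l • v + s (l • v) ∈ W}
      zero_mem' := by
        intro l
        rw [smul_zero, map_zero, add_zero]
        exact W.zero_mem
      add_mem' := by
        intro v w hv hw l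
        have h := W.add_mem (hv l) (hw l)
        have e : l • v + s (l • v) + (l • w + s (l • w)) = l • (v + w) + s (l • (v + w)) := by
          rw [smul_add, map_add]
          abel
        rwa [e] at h
      neg_mem' := by
        intro v hv l
        have h := W.neg_mem (hv l)
        have e : -(l • v + s (l • v)) = l • (-v) + s (l • (-v)) := by
          rw [smul_neg, map_neg]
          abel
        rwa [e] at h }
  have hU : ∀ v, v ∈ U ↔ ∀ l : F, l • v + s (l • v) ∈ W := fun v => Iff.rfl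
  have hUN : ∀ β, ∀ v ∈ U, R.N β v ∈ U := by
    intro β v hv
    rw [hU] at hv ⊢
    -- `tr (t N (tr (m v)))`
    have h4 : ∀ t m : F, (t * m) • R.N β v + s ((t * m) • R.N β v) +
        ((t * φ m) • R.N β (s v) + s ((t * φ m) • R.N β (s v))) ∈ W := by
      intro t m
      have h := h3 β t _ (hv m)
      have e : t • R.N β (m • v + s (m • v)) + s (t • R.N β (m • v + s (m • v))) =
          (t * m) • R.N β v + s ((t * m) • R.N β v) +
        ((t * φ m) • R.N β (s v) + s ((t * φ m) • R.N β (s v))) := by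
        rw [hs, map_add (R.N β), map_smul, map_smul, smul_add, smul_smul, smul_smul, map_add s]
        abel
      rwa [e] at h
    have hμ0 : μ ≠ 0 := by
      rintro rfl
      exact hμ (map_zero φ)
    have h5 : ∀ l : F, (l * (1 - φ μ / μ)) • R.N β (s v) + s ((l * (1 - φ μ / μ)) • R.N β (s v)) ∈ W := by
      intro l
      have h6 := W.sub_mem (h4 l 1) (h4 (l / μ) μ)
      rw [hφ1, mul_one, div_mul_cancel₀ l hμ0] at h6
      have e : l • R.N β v + s (l • R.N β v) + (l • R.N β (s v) + s (l • R.N β (s v))) -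
          (l • R.N β v + s (l • R.N β v) + ((l / μ * φ μ) • R.N β (s v) + s ((l / μ * φ μ) • R.N β (s v)))) =
          (l * (1 - φ μ / μ)) • R.N β (s v) + s ((l * (1 - φ μ / μ)) • R.N β (s v)) := by
        rw [show l * (1 - φ μ / μ) = l - l / μ * φ μ by ring, sub_smul, map_sub]
        abel
      rwa [e] at h6
    have hd : 1 - φ μ / μ ≠ 0 := by
      intro h
      rw [sub_eq_zero, eq_div_iff hμ0, one_mul] at h
      exact hμ h.symm
    have h6 : ∀ l : F, l • R.N β (s v) + s (l • R.N β (s v)) ∈ W := by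
      intro l
      have h := h5 (l / (1 - φ μ / μ))
      rwa [div_mul_cancel₀ l hd] at h
    intro l
    have h := W.sub_mem (h4 l 1) (h6 l)
    rw [hφ1, mul_one] at h
    rwa [add_sub_cancel_right] at h
  have hUs : ∀ (c : F), ∀ v ∈ U, c • v ∈ U := by
    intro c v hv l
    have h := hv (l * c)
    rwa [mul_smul] at h
  rcases R.irr U (fun k v hv => U.add_mem hv (hUs _ _ (hUN _ _ hv))) with h | h
  · left
    rw [AddSubgroup.eq_bot_iff_forall]
    intro w hw
    have h5 : ∀ β, R.N β w = 0 := by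
      intro β
      have h6 : R.N β w ∈ U := fun l => h3 β l w hw
      rw [h, AddSubgroup.mem_bot] at h6
      exact h6
    ext i
    obtain ⟨L, j, hL, hr, hk⟩ := R.iso i
    obtain ⟨e, he, he'⟩ := R.T_single_some L hr
    have h4 : R.T L w = Pi.single j (e * w i) := by
      conv_lhs => rw [← Finset.univ_sum_single w]
      rw [map_sum, Finset.sum_eq_single i (fun k _ hki => R.T_single_none L (hk k hki) _)
        (fun h' => absurd (Finset.mem_univ i) h'), he']
    have h6 : R.T L w = 0 := by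
      cases L with
      | nil => exact absurd rfl hL
      | cons β L =>
        show R.T L (R.N β w) = 0
        rw [h5, map_zero]
    rw [h6] at h4
    have h7 := congrFun h4 j
    rw [Pi.single_eq_same, Pi.zero_apply] at h7
    rw [Pi.zero_apply]
    exact (mul_eq_zero.1 h7.symm).resolve_left he
  · right
    intro v hv
    have h4 : v ∈ U := by rw [h]; exact AddSubgroup.mem_top v
    have h5 := h4 b0
    rw [hs, hv, ← add_smul, hb0, one_smul] at h5
    exact h5

end Irr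

section Pair

/-- Burnside counting on a natural `SL₂`-module. -/
theorem card_le_of_pair {P F : Type*} [Group P] [Finite P] [Field F] [Finite F] (M : Subgroup P) (A B C D : F → P)
    (hA : ∀ s t, A (s + t) = A s * A t) (hB : ∀ s t, B (s + t) = B s * B t) (hAB : ∀ s t, A s * B t = B t * A s)
    {k k' : F} (hk : k ≠ 0) (hk' : k' ≠ 0)
    (hC : ∀ u s, C u * A s * (C u)⁻¹ = A s * B (k * u * s)) (hCB : ∀ u t, C u * B t * (C u)⁻¹ = B t)
    (hD : ∀ u t, D u * B t * (D u)⁻¹ = B t * A (k' * u * t)) (hDA : ∀ u s, D u * A s * (D u)⁻¹ = A s)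
    {s0 : F} (hM : A s0 ∉ M) : Nat.card F ^ 2 ≤ M.index := by
  classical
  have hA0 : A 0 = 1 := by
    have h := hA 0 0
    rw [add_zero] at h
    exact (left_eq_mul.1 h)
  have hB0 : B 0 = 1 := by
    have h := hB 0 0
    rw [add_zero] at h
    exact (left_eq_mul.1 h)
  let f : Multiplicative (F × F) →* P :=
    { toFun := fun x => A x.toAdd.1 * B x.toAdd.2
      map_one' := by
        show A 0 * B 0 = 1
        rw [hA0, hB0, one_mul]
      map_mul' := by
        intro x y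
        show A (x.toAdd.1 + y.toAdd.1) * B (x.toAdd.2 + y.toAdd.2) = A x.toAdd.1 * B x.toAdd.2 * (A y.toAdd.1 * B y.toAdd.2)
        rw [hA, hB, mul_assoc (A x.toAdd.1), mul_assoc (A x.toAdd.1) (B x.toAdd.2), ← mul_assoc (A y.toAdd.1),
          ← mul_assoc (B x.toAdd.2), hAB, mul_assoc (B x.toAdd.2)] }
  have cC : ∀ u s t, IsConj (A s * B t) (A s * B (t + k * u * s)) := by
    intro u s t
    refine isConj_iff.2 ⟨C u, ?_⟩
    have e : C u * (A s * B t) * (C u)⁻¹ = (C u * A s * (C u)⁻¹) * (C u * B t * (C u)⁻¹) := by group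
    rw [e, hC, hCB, mul_assoc, ← hB, add_comm]
  have cD : ∀ u s t, IsConj (A s * B t) (A (s + k' * u * t) * B t) := by
    intro u s t
    refine isConj_iff.2 ⟨D u, ?_⟩
    have e : D u * (A s * B t) * (D u)⁻¹ = (D u * A s * (D u)⁻¹) * (D u * B t * (D u)⁻¹) := by group
    rw [e, hD, hDA, hA, mul_assoc (A s), hAB]
  have hconj : ∀ x : Multiplicative (F × F), x ≠ 1 → IsConj (f x) (A 1) := by
    intro x hx
    obtain ⟨s, t, rfl⟩ : ∃ s t, x = Multiplicative.ofAdd ((s, t) : F × F) := ⟨x.toAdd.1, x.toAdd.2, rfl⟩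
    have hst : ¬ (s = 0 ∧ t = 0) := by
      rintro ⟨rfl, rfl⟩
      exact hx rfl
    show IsConj (A s * B t) (A 1)
    -- make `t` nonzero
    have h1 : ∀ s t, t ≠ 0 → IsConj (A s * B t) (A 1) := by
      intro s t ht
      have h2 := cD ((1 - s) / (k' * t)) s t
      have h3 : s + k' * ((1 - s) / (k' * t)) * t = 1 := by
        field_simp
        ring
      rw [h3] at h2
      have h4 := cC (-t / k) 1 t
      have h5 : t + k * (-t / k) * 1 = 0 := by
        field_simp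
        ring
      rw [h5, hB0, mul_one (A 1)] at h4
      exact h2.trans h4
    by_cases ht : t = 0
    · subst ht
      have hs0 : s ≠ 0 := fun h => hst ⟨h, rfl⟩
      have h2 := cC (1 / (k * s)) s 0
      have h3 : 0 + k * (1 / (k * s)) * s = 1 := by
        field_simp
        ring
      rw [h3] at h2
      exact h2.trans (h1 _ _ one_ne_zero)
    · exact h1 s t ht
  let _ : MulAction (Multiplicative (F × F)) (P ⧸ M) := MulAction.compHom _ f
  have hfx : ∀ x : Multiplicative (F × F), fx (P ⧸ M) x = fx (P ⧸ M) (f x) := fun x => rfl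
  have hc : ∀ x : Multiplicative (F × F), x ≠ 1 → fx (P ⧸ M) x = fx (P ⧸ M) (A 1) := by
    intro x hx
    rw [hfx]
    exact fx_of_isConj (hconj x hx)
  have hs0 : s0 ≠ 0 := by
    rintro rfl
    exact hM (by rw [hA0]; exact one_mem M)
  have hlt : fx (P ⧸ M) (A 1) < Nat.card (P ⧸ M) := by
    have h1 := hconj (Multiplicative.ofAdd ((s0, 0) : F × F)) (by
      intro h
      have h2 : ((s0, 0) : F × F) = 0 := h
      exact hs0 (congrArg Prod.fst h2))
    have h2 : IsConj (A s0) (A 1) := by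
      have h3 : f (Multiplicative.ofAdd ((s0, 0) : F × F)) = A s0 := by
        show A s0 * B 0 = A s0
        rw [hB0, mul_one]
      rwa [h3] at h1
    rw [← fx_of_isConj h2]
    refine fx_lt ⟨((1 : P) : P ⧸ M), fun h => hM ?_⟩
    have h2 : ((A s0 * 1 : P) : P ⧸ M) = ((1 : P) : P ⧸ M) := h
    have h3 := QuotientGroup.eq.1 h2.symm
    rwa [inv_one, one_mul, mul_one] at h3
  have h := card_le_of_const (Q := Multiplicative (F × F)) (Ω := P ⧸ M) _ hc hlt
  have h1 : Nat.card (Multiplicative (F × F)) = Nat.card F ^ 2 := by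
    rw [pow_two]
    exact Nat.card_prod F F
  rw [h1] at h
  exact (Nat.le_add_right _ _).trans h

end Pair

section Group

variable {Γ F ι κ : Type*} [Group Γ] [Field F] [Fintype ι] [DecidableEq ι] (R : RH Γ F ι κ)

/-- The elements of the fixed group. -/
def Y (φ : F →+* F) (ρB : κ → κ) (η : κ → F) (β : κ) (t : F) : Γ := R.y β t * R.y (ρB β) (η β * φ t)

/-- The group generated by the special group and the `Y β t`. -/
def P0 (G : Subgroup Γ) (φ : F →+* F) (ρB : κ → κ) (η : κ → F) : Subgroup Γ :=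
  Subgroup.closure ((Q0 R.toData G : Set Γ) ∪ Set.range (fun k : κ × F => Y R φ ρB η k.1 k.2))

variable {R} {G : Subgroup Γ} {φ : F →+* F} {ρB : κ → κ} {η : κ → F}

theorem Q0_le_P0 : Q0 R.toData G ≤ P0 R G φ ρB η := fun _ hx => Subgroup.subset_closure (Or.inl hx)

theorem Y_mem (β : κ) (t : F) : Y R φ ρB η β t ∈ P0 R G φ ρB η := Subgroup.subset_closure (Or.inr ⟨(β, t), rfl⟩)

theorem Y_mem_Pg (β : κ) (t : F) : Y R φ ρB η β t ∈ R.toData.Pg :=
  mul_mem (R.toData.y_mem (β, t)) (R.toData.y_mem (ρB β, η β * φ t))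

theorem P0_le (hY : ∀ β t, Y R φ ρB η β t ∈ G) : P0 R G φ ρB η ≤ G := by
  rw [P0, Subgroup.closure_le]
  rintro x (hx | ⟨⟨β, t⟩, rfl⟩)
  · exact hx.1
  · exact hY β t

theorem P0_le_Pg : P0 R G φ ρB η ≤ R.toData.Pg := by
  rw [P0, Subgroup.closure_le]
  rintro x (hx | ⟨⟨β, t⟩, rfl⟩)
  · exact R.toData.Qg_le hx.2
  · exact Y_mem_Pg β t

theorem P0_le_normalizer [Finite Γ] (hY : ∀ β t, Y R φ ρB η β t ∈ G) :
    P0 R G φ ρB η ≤ Subgroup.normalizer (Q0 R.toData G : Set Γ) := by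
  intro g hg
  apply mem_norm
  intro x hx
  have hx1 : x ∈ G := hx.1
  have h1 : g * x * g⁻¹ ∈ G := mul_mem (mul_mem (P0_le hY hg) hx1) (inv_mem (P0_le hY hg))
  refine ⟨h1, ?_⟩
  exact ((Subgroup.mem_normalizer_iff.1 (R.toData.Pg_le_normalizer (P0_le_Pg hg))) x).1 hx.2

/-- The special group in `P0`. -/
noncomputable abbrev QQ (R : RH Γ F ι κ) (G : Subgroup Γ) (φ : F →+* F) (ρB : κ → κ) (η : κ → F) : Subgroup (P0 R G φ ρB η) :=
  (Q0 R.toData G).subgroupOf (P0 R G φ ρB η)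

/-- The centre. -/
noncomputable abbrev ZZ (R : RH Γ F ι κ) (G : Subgroup Γ) (φ : F →+* F) (ρB : κ → κ) (η : κ → F) : Subgroup (P0 R G φ ρB η) :=
  (G ⊓ R.toData.Zg).subgroupOf (P0 R G φ ρB η)

theorem exists_not_mem {M : Subgroup (P0 R G φ ρB η)} (hQ : QQ R G φ ρB η ≤ M) (hM : M ≠ ⊤) :
    ∃ k : κ × F, (⟨Y R φ ρB η k.1 k.2, Y_mem k.1 k.2⟩ : P0 R G φ ρB η) ∉ M := by
  by_contra hcon
  push Not at hcon
  apply hM
  rw [eq_top_iff]
  have h1 : P0 R G φ ρB η ≤ M.map (P0 R G φ ρB η).subtype := by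
    conv_lhs => rw [P0]
    rw [Subgroup.closure_le]
    rintro x (hx | ⟨k, rfl⟩)
    · exact ⟨⟨x, Q0_le_P0 hx⟩, hQ hx, rfl⟩
    · exact ⟨_, hcon k, rfl⟩
  intro g _
  obtain ⟨g', hg', h⟩ := h1 g.2
  have : g' = g := Subtype.ext h
  rwa [← this]

variable {σ : Γ →* Γ} {ρ : Equiv.Perm ι} {ε : ι → F}

theorem hyp_tw (T : TwData R.toData σ G φ (sV φ ρ ε)) : Hyp (ZZ R G φ ρB η) (QQ R G φ ρB η) where
  le := fun g hg => ⟨hg.1, R.toData.Zg_le_Qg hg.2⟩
  central := by
    rintro z ⟨-, a, ha⟩ g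
    apply Subtype.ext
    have ha' : R.toData.z a = (z : Γ) := ha
    show (g : Γ) * (z : Γ) = (z : Γ) * (g : Γ)
    rw [← ha']
    exact R.toData.central (P0_le_Pg g.2) a
  comm_mem := by
    rintro x ⟨hxG, v, a, hx⟩ y ⟨hyG, w, b, hy⟩
    have hxG' : (x : Γ) ∈ G := hxG
    have hyG' : (y : Γ) ∈ G := hyG
    have hx' : (x : Γ) = R.toData.X v * R.toData.z a := hx
    have hy' : (y : Γ) = R.toData.X w * R.toData.z b := hy
    refine ⟨?_, R.toData.om v w, ?_⟩
    · show (x : Γ) * (y : Γ) * (x : Γ)⁻¹ * (y : Γ)⁻¹ ∈ G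
      exact mul_mem (mul_mem (mul_mem hxG' hyG') (inv_mem hxG')) (inv_mem hyG')
    · show R.toData.z (R.toData.om v w) = (x : Γ) * (y : Γ) * (x : Γ)⁻¹ * (y : Γ)⁻¹
      rw [hx', hy', R.toData.comm_eq]
  special := by
    rintro x ⟨hxG, v, a, hx⟩ hxZ z ⟨hzG, b, hz⟩
    have hxG' : (x : Γ) ∈ G := hxG
    have hzG' : (z : Γ) ∈ G := hzG
    have hx' : (x : Γ) = R.toData.X v * R.toData.z a := hx
    have hz' : R.toData.z b = (z : Γ) := hz
    have hv : v ≠ 0 := by
      rintro rfl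
      apply hxZ
      obtain ⟨c, hc⟩ := R.toData.exists_X_zero
      exact ⟨hxG, c + a, by rw [R.toData.z_add, ← hc]; exact hx'.symm⟩
    have hb : φ b = b := T.fix_z (by rw [hz']; exact hzG')
    obtain ⟨w, hw, hom⟩ := T.pair v (T.fix_coord (by rw [← hx']; exact hxG')) hv b hb
    obtain ⟨c, hc⟩ := T.lift w hw
    have hc' : R.toData.X w * R.toData.z c ∈ Q0 R.toData G := ⟨hc, w, c, rfl⟩
    refine ⟨⟨R.toData.X w * R.toData.z c, Q0_le_P0 hc'⟩, hc', ?_⟩
    apply Subtype.ext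
    show (x : Γ) * (R.toData.X w * R.toData.z c) * (x : Γ)⁻¹ * (R.toData.X w * R.toData.z c)⁻¹ = (z : Γ)
    rw [hx', R.toData.comm_eq, hom, hz']

theorem Y_X (hN : ∀ β v, sV φ ρ ε (R.N β v) = η β • R.N (ρB β) (sV φ ρ ε v)) (β : κ) (t : F) {v : ι → F}
    (hv : sV φ ρ ε v = v) : ∃ a, Y R φ ρB η β t * R.X v * (Y R φ ρB η β t)⁻¹ =
      R.X (v + (t • R.N β v + sV φ ρ ε (t • R.N β v)) + (t * φ t) • R.N β (sV φ ρ ε (R.N β v))) * R.z a := by
  obtain ⟨a, ha⟩ := R.y_X (ρB β, η β * φ t) v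
  obtain ⟨b, hb⟩ := R.y_X (β, t) (R.rho (ρB β, η β * φ t) v)
  have e1 : R.rho (β, t) (R.rho (ρB β, η β * φ t) v) =
      v + (t • R.N β v + sV φ ρ ε (t • R.N β v)) + (t * φ t) • R.N β (sV φ ρ ε (R.N β v)) := by
    have h1 : R.rho (ρB β, η β * φ t) v = v + φ t • sV φ ρ ε (R.N β v) := by
      show v + (η β * φ t) • R.N (ρB β) v = _
      rw [hN, hv, smul_smul, mul_comm]
    rw [h1]
    show v + φ t • sV φ ρ ε (R.N β v) + t • R.N β (v + φ t • sV φ ρ ε (R.N β v)) = _
    rw [map_add (R.N β), map_smul, smul_add, smul_smul, sV_smul]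
    abel
  rw [e1] at hb
  refine ⟨b + a, ?_⟩
  unfold Y
  have e2 : R.y β t * R.y (ρB β) (η β * φ t) * R.X v * (R.y β t * R.y (ρB β) (η β * φ t))⁻¹ =
      R.y β t * (R.y (ρB β) (η β * φ t) * R.X v * (R.y (ρB β) (η β * φ t))⁻¹) * (R.y β t)⁻¹ := by group
  rw [e2, ha]
  have e3 : R.y β t * (R.X (R.rho (ρB β, η β * φ t) v) * R.z a) * (R.y β t)⁻¹ =
      R.y β t * R.X (R.rho (ρB β, η β * φ t) v) * (R.y β t)⁻¹ * R.z a := by
    have h3 : R.z a * (R.y β t)⁻¹ = (R.y β t)⁻¹ * R.z a := by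
      rw [eq_inv_mul_iff_mul_eq, ← mul_assoc, R.y_z, mul_inv_cancel_right]
    rw [mul_assoc, mul_assoc, h3]
    simp only [mul_assoc]
  rw [e3, hb, R.z_add, mul_assoc]

theorem irred_tw (T : TwData R.toData σ G φ (sV φ ρ ε)) (h2 : ∀ t, φ (φ t) = t) {b0 : F} (hb0 : b0 + φ b0 = 1)
    {μ : F} (hμ : φ μ ≠ μ) (hN : ∀ β v, sV φ ρ ε (R.N β v) = η β • R.N (ρB β) (sV φ ρ ε v))
    (N : Subgroup (P0 R G φ ρB η)) (hNn : N.Normal) (hZ : ZZ R G φ ρB η ≤ N) (hQ : N ≤ QQ R G φ ρB η) :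
    N = ZZ R G φ ρB η ∨ N = QQ R G φ ρB η := by
  -- elements of `N` as elements of `Γ`
  let N' : Subgroup Γ := N.map (P0 R G φ ρB η).subtype
  have hN'1 : ∀ {g : Γ}, g ∈ N' → g ∈ Q0 R.toData G := by
    rintro _ ⟨g, hg, rfl⟩
    exact hQ hg
  have hN'z : ∀ a, φ a = a → R.z a ∈ N' := fun a ha => by
    have h1 : R.z a ∈ Q0 R.toData G := ⟨T.z_mem a ha, R.toData.z_mem_Qg a⟩
    exact ⟨⟨R.z a, Q0_le_P0 h1⟩, hZ ⟨T.z_mem a ha, a, rfl⟩, rfl⟩
  have hN'c : ∀ {g}, g ∈ N' → ∀ k ∈ P0 R G φ ρB η, k * g * k⁻¹ ∈ N' := by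
    rintro _ ⟨g, hg, rfl⟩ k hk
    exact ⟨_, hNn.conj_mem g hg ⟨k, hk⟩, rfl⟩
  have hmem : ∀ g : P0 R G φ ρB η, g ∈ N ↔ (g : Γ) ∈ N' := by
    intro g
    refine ⟨fun h => ⟨g, h, rfl⟩, ?_⟩
    rintro ⟨g', hg', h⟩
    have : g' = g := Subtype.ext h
    rwa [← this]
  let W : AddSubgroup (ι → F) :=
    { carrier := {v | ∃ a, R.X v * R.z a ∈ N'}
      zero_mem' := ⟨0, by rw [R.X_zero, R.z_zero, mul_one]; exact one_mem _⟩
      add_mem' := by
        rintro v w ⟨a, ha⟩ ⟨b, hb⟩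
        obtain ⟨c, hc⟩ := R.X_add v w
        refine ⟨-c + (a + b), ?_⟩
        have h := mul_mem ha hb
        have e : R.X v * R.z a * (R.X w * R.z b) = R.X (v + w) * R.z (-c + (a + b)) := by
          rw [hc, mul_assoc (R.X v * R.X w), ← R.z_add c, add_neg_cancel_left, R.z_add]
          calc R.X v * R.z a * (R.X w * R.z b) = R.X v * (R.z a * R.X w) * R.z b := by simp only [mul_assoc]
            _ = _ := by rw [← R.X_z]; simp only [mul_assoc]
        rwa [e] at h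
      neg_mem' := by
        rintro v ⟨a, ha⟩
        obtain ⟨b, hb⟩ := R.toData.exists_X_neg v
        refine ⟨b - a, ?_⟩
        have h := inv_mem ha
        have e : (R.X v * R.z a)⁻¹ = R.X (-v) * R.z (b - a) := by
          have hz : (R.z a)⁻¹ = R.z (-a) := (R.toData.z_neg a).symm
          rw [mul_inv_rev, hz]
          have hb' : (R.X v)⁻¹ = R.X (-v) * R.z b := hb
          rw [hb', ← mul_assoc, ← R.X_z, mul_assoc, ← R.z_add]
          congr 2
          ring
        rwa [e] at h }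
  have hW : ∀ v, v ∈ W ↔ ∃ a, R.X v * R.z a ∈ N' := fun v => Iff.rfl
  have : Nontrivial F := inferInstance
  have hWf : ∀ v ∈ W, sV φ ρ ε v = v := by
    rintro v ⟨a, ha⟩
    exact T.fix_coord (hN'1 ha).1
  have hWY : ∀ β (t : F), ∀ v ∈ W, v + (t • R.N β v + sV φ ρ ε (t • R.N β v)) +
      (t * φ t) • R.N β (sV φ ρ ε (R.N β v)) ∈ W := by
    intro β t v hv
    obtain ⟨c, hc⟩ := Y_X hN β t (hWf v hv)
    obtain ⟨a, ha⟩ := hv
    have h := hN'c ha _ (Y_mem β t)
    refine ⟨c + a, ?_⟩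
    have e : Y R φ ρB η β t * (R.X v * R.z a) * (Y R φ ρB η β t)⁻¹ =
        Y R φ ρB η β t * R.X v * (Y R φ ρB η β t)⁻¹ * R.z a := by
      have h3 := R.toData.central (inv_mem (Y_mem_Pg (R := R) (φ := φ) (ρB := ρB) (η := η) β t)) a
      have h4 : (Y R φ ρB η β t)⁻¹ * R.z a = R.z a * (Y R φ ρB η β t)⁻¹ := h3
      rw [mul_assoc, mul_assoc, ← h4]
      simp only [mul_assoc]
    rw [e, hc, mul_assoc, ← R.z_add] at h
    exact h
  rcases irr_tw R h2 hb0 hμ (sV φ ρ ε) (sV_smul φ ρ ε) W hWY with h | h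
  · left
    refine le_antisymm ?_ hZ
    intro g hg
    obtain ⟨hgG, v, a, hva⟩ := hQ hg
    have hva' : (g : Γ) = R.X v * R.z a := hva
    have hgG' : (g : Γ) ∈ G := hgG
    have hv : v ∈ W := ⟨a, by rw [← hva']; exact (hmem g).1 hg⟩
    rw [h, AddSubgroup.mem_bot] at hv
    subst hv
    rw [R.X_zero, one_mul] at hva'
    exact ⟨hgG, a, hva'.symm⟩
  · right
    refine le_antisymm hQ ?_
    intro g hg
    obtain ⟨hgG, v, a, hva⟩ := hg
    have hva' : (g : Γ) = R.X v * R.z a := hva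
    have hgG' : (g : Γ) ∈ G := hgG
    have hv : sV φ ρ ε v = v := T.fix_coord (by rw [hva'] at hgG'; exact hgG')
    obtain ⟨b, hb⟩ := h v hv
    rw [hmem, hva']
    have e : R.X v * R.z a = R.X v * R.z b * R.z (a - b) := by
      rw [mul_assoc, ← R.z_add]
      congr 2
      ring
    rw [e]
    refine mul_mem hb (hN'z _ ?_)
    apply T.fix_z
    have h5 : R.z (a - b) = (R.X v * R.z b)⁻¹ * (g : Γ) := by rw [hva', e, inv_mul_cancel_left]
    show R.z (a - b) ∈ G
    rw [h5]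
    exact mul_mem (inv_mem (hN'1 hb).1) hgG'

/-- **The amplified bound.** -/
theorem amp_tw [Finite Γ] [Nonempty ι] (T : TwData R.toData σ G φ (sV φ ρ ε)) (h2 : ∀ t, φ (φ t) = t)
    (hss : ∀ v, sV φ ρ ε (sV φ ρ ε v) = v) {b0 : F}
    (hb0 : b0 + φ b0 = 1) {μ : F} (hμ : φ μ ≠ μ)
    (hN : ∀ β v, sV φ ρ ε (R.N β v) = η β • R.N (ρB β) (sV φ ρ ε v)) (hY : ∀ β t, Y R φ ρB η β t ∈ G)
    {X0 : Type*} [Group X0] [Finite X0] [IsSimpleGroup X0] (π : G →* X0) (hπ : Function.Injective π)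
    {H : Subgroup X0} (hH : H ≠ ⊤)
    (hconj : ∀ a b (ha : φ a = a) (hb : φ b = b), a ≠ 0 → b ≠ 0 →
      IsConj (⟨R.z a, T.z_mem a ha⟩ : G) ⟨R.z b, T.z_mem b hb⟩) (m : ℕ)
    (hm : ∀ M : Subgroup (P0 R G φ ρB η), QQ R G φ ρB η ≤ M → M ≠ ⊤ → m ≤ M.index) :
    Nat.card {v : ι → F // sV φ ρ ε v = v} * Nat.card {a : F // φ a = a} ≤ H.index ∨
      m ^ 2 * (Nat.card {a : F // φ a = a} * (Nat.card {v : ι → F // sV φ ρ ε v = v} *
        Nat.card {a : F // φ a = a})) ≤ H.index ^ 2 := by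
  have hG := P0_le hY
  have hφ1 : φ 1 = 1 := map_one φ
  let z0 : G := ⟨R.z 1, T.z_mem 1 hφ1⟩
  have hz0 : π z0 ≠ 1 := by
    intro h
    have h3 : z0 = 1 := hπ (by rw [map_one]; exact h)
    exact one_ne_zero (R.z_inj 1 (congrArg Subtype.val h3))
  have hlt : fx (Cos π H) z0 < H.index := by
    rw [← card_cos π H]
    exact fx_lt (exists_moved π hH hz0)
  have hnorm : (QQ R G φ ρB η).Normal := Subgroup.normal_subgroupOf_of_le_normalizer (P0_le_normalizer hY)
  have h1Q : R.z 1 ∈ Q0 R.toData G := ⟨T.z_mem 1 hφ1, R.toData.z_mem_Qg 1⟩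
  obtain ⟨lam, hl⟩ := (hyp_tw (ρB := ρB) (η := η) T).exists_char (t := ⟨R.z 1, Q0_le_P0 h1Q⟩)
    ⟨T.z_mem 1 hφ1, 1, rfl⟩ fun h => one_ne_zero (R.z_inj 1 (congrArg Subtype.val h))
  -- `Z ≠ Q`
  have hne : ZZ R G φ ρB η ≠ QQ R G φ ρB η := by
    intro h
    obtain ⟨i⟩ := ‹Nonempty ι›
    -- a fixed vector
    obtain ⟨v, hv, hv0⟩ : ∃ v : ι → F, sV φ ρ ε v = v ∧ v ≠ 0 := by
      by_contra hcon
      push Not at hcon
      have h3 : ∀ u : ι → F, sV φ ρ ε u = -u := by
        intro u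
        have h4 := hcon (u + sV φ ρ ε u) (by rw [map_add, hss, add_comm])
        rw [add_comm] at h4
        exact eq_neg_of_add_eq_zero_left h4
      have h5 := h3 (μ • Pi.single i 1)
      rw [sV_smul, h3, smul_neg, neg_inj] at h5
      have h6 := congrFun h5 i
      simp only [Pi.smul_apply, Pi.single_eq_same, smul_eq_mul, mul_one] at h6
      exact hμ h6
    obtain ⟨c, hc⟩ := T.lift v hv
    have h3 : (⟨R.X v * R.z c, Q0_le_P0 ⟨hc, v, c, rfl⟩⟩ : P0 R G φ ρB η) ∈ ZZ R G φ ρB η := by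
      rw [h]
      exact ⟨hc, v, c, rfl⟩
    obtain ⟨-, a, ha⟩ := h3
    have ha' : R.z a = R.X v * R.z c := ha
    apply hv0
    apply R.toData.uniq v (a - c)
    show R.X v = R.z (a - c)
    rw [sub_eq_add_neg, R.z_add, ha', mul_assoc, ← R.z_add, add_neg_cancel, R.z_zero, mul_one]
  have h1 := amp (Ω := Cos (π.comp (Subgroup.inclusion hG)) H) (hyp_tw T) hl (fx (Cos π H) z0) (fun z hz hz1 => by
      obtain ⟨hzG, a, ha⟩ := hz
      have ha' : R.z a = (z : Γ) := ha
      have ha2 : a ≠ 0 := by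
        rintro rfl
        exact hz1 (Subtype.ext (by rw [← ha', R.z_zero]; rfl))
      have haG : R.z a ∈ G := by rw [ha']; exact hzG
      have hfa := T.fix_z haG
      have h2 : fx (Cos π H) (⟨R.z a, T.z_mem a hfa⟩ : G) = fx (Cos π H) z0 :=
        fx_of_isConj (hconj a 1 hfa hφ1 ha2 one_ne_zero)
      rw [← h2]
      have h3 : (⟨R.z a, T.z_mem a hfa⟩ : G) = Subgroup.inclusion hG z := Subtype.ext ha'
      rw [h3]
      rfl) hlt m hm (irred_tw T h2 hb0 hμ hN) hne
  have hcQ : Nat.card {v : ι → F // sV φ ρ ε v = v} * Nat.card {a : F // φ a = a} ≤ Nat.card (QQ R G φ ρB η) := by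
    have h := T.card_Q
    rw [Subgroup.card_top] at h
    rw [Nat.card_congr (Subgroup.subgroupOfEquivOfLe Q0_le_P0).toEquiv]
    exact h
  have hcZ : Nat.card {a : F // φ a = a} ≤ Nat.card (ZZ R G φ ρB η) := by
    refine Nat.card_le_card_of_injective
      (fun a => ⟨⟨R.z a, Q0_le_P0 ⟨T.z_mem a a.2, R.toData.z_mem_Qg a⟩⟩, T.z_mem a a.2, a, rfl⟩) fun a b h => ?_
    apply Subtype.ext
    exact z_injective R.toData (congrArg (fun w : ZZ R G φ ρB η => ((w : P0 R G φ ρB η) : Γ)) h)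
  have hcard : Nat.card (Cos (π.comp (Subgroup.inclusion hG)) H) = H.index := rfl
  rw [hcard] at h1
  rcases h1 with h1 | h1
  · left
    exact hcQ.trans (h1.trans (Nat.sub_le _ _))
  · right
    calc m ^ 2 * (Nat.card {a : F // φ a = a} * (Nat.card {v : ι → F // sV φ ρ ε v = v} *
        Nat.card {a : F // φ a = a})) ≤ m ^ 2 * (Nat.card (ZZ R G φ ρB η) * Nat.card (QQ R G φ ρB η)) :=
          Nat.mul_le_mul_left _ (Nat.mul_le_mul hcZ hcQ)
      _ ≤ _ := h1
      _ ≤ _ := Nat.pow_le_pow_left (Nat.sub_le _ _) 2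

end Group

end Cfsg.Agent.H172.SITwAmp
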