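import Mathlib
import Cfsg.Agent.H934.HeisTwE6
import Cfsg.Agent.H172.SITwAmp

/-!
# A better index bound for `²E₆(q)`

The 24 roots of the subsystem `A₅` which are not fixed by the graph automorphism act irreducibly on the special group of
the highest root; every proper subgroup of `²E₆(q)` has index at least `q ^ 15`.
-/

set_option autoImplicit false

namespace Cfsg.Agent.H172.SITwE6

open Cfsg.Lie Cfsg.Agent.ChevalleyStructure
open Cfsg.Agent.ChevalleyStructure.Elts hiding x_add x_zero x_eq_one_iff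
open Cfsg.Agent.ChevalleyStructure.TwE6Basic Cfsg.Agent.ChevalleyStructure.TwE6BN
open Cfsg.Agent.H934 Cfsg.Agent.H934.HeisTw Cfsg.Agent.H934.HeisRoot Cfsg.Agent.H934.HeisChev Cfsg.Agent.H934.HeisTwE6
open Cfsg.Agent.H934.HeisE6 (at' dec byte)
open Cfsg.Agent.H172.SITwAmp

universe u

/-- sign from bit `i` of `N` -/
def sb (N i : ℕ) : ℤ := if N.testBit i then -1 else 1

/-- index -/
def toB (a : ℕ) : Fin 24 := ⟨a % 24, Nat.mod_lt _ (by norm_num)⟩

/-- The tables. -/
def tab : HTab 20 24 where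
  S := HeisE6.tab.S
  th := HeisE6.tab.th
  B := fun i => byte 0x3b2d3a292b2839262a253824221d1f1c230f210e1e0d1a0c i
  opp := HeisE6.tab.opp
  e := HeisE6.tab.e
  next := fun b i => dec (byte (at' 0 [0x907000504000200010000000000000000000000, 0xe0c0b0000000000000003020001000000000000, 0xa00070600040300000100000000000000000000, 0x110000000c0b0000000006050000000001000000, 0xa090800000004030200000000000000000000, 0x1100000e00000b000008000005000002000000, 0xa090807060500000000000000000000, 0x1100000e000c000000080006000003000000, 0x10000d0c00000000000000040300000100000000, 0x120000000d000b00000007000500000000010000, 0x100f0e00000000000000000004030200000000, 0x1200000f0000000b0009000000050000020000, 0x1200000f000d0000000900070000040000, 0x100f0e0d0c0b00000000, 0x130000100000000c000a0000000600000300, 0x13121100000000000000000007060500, 0x1300001000000d00000a00000700000400, 0x1312110000000d0c0b00, 0x140000000010000e0000000a000800000003, 0x14000012110000000000000009080005,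 0x1400000000100f000000000a0900000004, 0x1400001211000f0e000b, 0x14001312000000000000000a0907, 0x140013001110000e0c] b) i)
  cc := fun b i => sb (at' 0 [0xc8000, 0xe0000, 0x36000, 0x80008, 0x1c00, 0x1048, 0x0, 0x25148, 0x80180, 0x8204, 0x70070, 0x48a24, 0x128a4, 0x0, 0x24512, 0xe00e, 0x412, 0xe, 0x1041, 0x800c, 0x10001, 0x6c, 0x2c00, 0x148] b) i
  ng := fun b => toB (at' 0 [23, 22, 21, 20, 17, 16, 13, 12, 19, 18, 15, 14, 7, 6, 11, 10, 5, 4, 9, 8, 3, 2, 1, 0] b)
  p := HeisE6.tab.p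

/-- isolating paths -/
def isoL : List (List ℕ) := [[18, 11, 16], [14, 9, 20], [9, 19, 13], [3, 18, 11], [8, 18, 12], [10, 9, 21], [1, 18, 11], [8, 9, 20], [1, 14, 9], [1, 9, 19], [2, 18, 12], [0, 18, 15], [4, 3, 19], [0, 14, 15], [2, 3, 18], [0, 3, 19], [0, 8, 18], [1, 2, 18], [0, 1, 18], [0, 1, 14]]

/-- paths to the lowest weight -/
def dnL : List (List ℕ) := [[], [14, 9], [9], [3], [8], [10, 9], [1], [8, 9], [3, 8], [1, 9], [2], [0], [4, 3], [2, 9], [2, 3], [0, 3], [0, 8], [1, 2], [0, 1], [0, 3, 8]]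

/-- paths from the lowest weight -/
def frL : List (List ℕ) := [[], [18, 11], [18], [20], [19], [18, 15], [22], [18, 19], [19, 20], [18, 22], [21], [23], [20, 17], [18, 21], [20, 21], [20, 23], [19, 23], [21, 22], [22, 23], [18, 21, 22]]

theorem iso_run : ∀ i : Fin 20, (at' [] isoL i).map toB ≠ [] ∧ (run tab.next ((at' [] isoL i).map toB) i).isSome ∧
    ∀ l, l ≠ i → run tab.next ((at' [] isoL i).map toB) l = none := by decide +kernel

theorem dn_run : ∀ i : Fin 20, run tab.next ((at' [] dnL i).map toB) i = some 0 := by decide +kernel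

theorem fr_run : ∀ i : Fin 20, run tab.next ((at' [] frL i).map toB) 0 = some i := by decide +kernel

theorem tab_ok : tab.Ok chevE6 where
  S_lt := HeisE6.tab_ok.S_lt
  th_lt := HeisE6.tab_ok.th_lt
  B_lt := by decide +kernel
  th_ne := HeisE6.tab_ok.th_ne
  th_ne' := by decide +kernel
  S_ne := HeisE6.tab_ok.S_ne
  opp_ne := HeisE6.tab_ok.opp_ne
  opp_opp := HeisE6.tab_ok.opp_opp
  e_sq := HeisE6.tab_ok.e_sq
  B_ne := by decide +kernel
  c_sq := by decide +kernel
  B_comm := by decide +kernel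
  ng_spec := by decide +kernel
  p_lt := HeisE6.tab_ok.p_lt
  p_th := HeisE6.tab_ok.p_th
  iso := fun i => by
    obtain ⟨h1, h2, h3⟩ := iso_run i
    obtain ⟨j, hj⟩ := Option.isSome_iff_exists.1 h2
    exact ⟨_, j, h1, hj, h3⟩
  conn := fun i j => ⟨_, run_append (dn_run i) (fr_run j)⟩

/-- the graph automorphism on the 24 roots -/
def rB (b : Fin 24) : Fin 24 := toB (if (b : ℕ) % 2 = 0 then b + 1 else b - 1)

/-- signs -/
def eta : Fin 24 → ℤ := ![-1, -1, 1, 1, -1, -1, 1, 1, -1, -1, 1, 1, 1, 1, 1, 1, -1, -1, -1, -1, 1, 1, -1, -1]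

/-- a root `d` for each root `b` ... -/
def dI (b : Fin 24) : Fin 24 := toB (at' 0 [14, 15, 11, 10, 9, 8, 8, 9, 5, 4, 3, 2, 3, 2, 0, 1, 1, 0, 0, 1, 1, 0, 3, 2] b)

/-- ... and the sum `b + d` -/
def bI (b : Fin 24) : Fin 24 := toB (at' 0 [2, 3, 0, 1, 0, 1, 2, 3, 1, 0, 1, 0, 9, 8, 2, 3, 8, 9, 4, 5, 10, 11, 15, 14] b)

/-- structure constants -/
def k1 (b : Fin 24) : ℤ := sb 0x555aaa b

/-- words to the fundamental classes -/
def wdL : List (List ℕ) := [[2, 1, 2, 3], [2, 1, 2, 3], [1, 2, 3], [1, 2, 3], [2, 3], [2, 3], [3], [3], [1, 2], [1, 2], [2], [2], [], [], [], [], [2], [2], [1], [1], [1, 2], [1, 2], [2, 1, 2], [2, 1, 2]]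

/-- word -/
def wd (b : Fin 24) : List (Fin 4) := (at' [] wdL b).map fun a => ⟨a % 4, Nat.mod_lt _ (by norm_num)⟩

theorem go_wd : ∀ b : Fin 24, go (wd b) (tab.B b) (tab.B (rB b)) = true := by decide +kernel

theorem tabB_rho : ∀ b : Fin 24, (rho ⟨tab.B b, tab_ok.B_lt b⟩).val = tab.B (rB b) ∧
    epsE ⟨tab.B b, tab_ok.B_lt b⟩ = eta b := by decide +kernel

theorem tab_eq : ∀ β i, tab.next (rB β) (rhoI i) = (tab.next β i).map rhoI ∧
    ∀ j, tab.next β i = some j → eps j * tab.cc β i = eta β * tab.cc (rB β) (rhoI i) * eps i := by decide +kernel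

/-- commuting root elements -/
def EE (r s : ℕ) : Prop := s ≠ r ∧ s ≠ chevE6.neg r ∧ chevE6.commTerms r s = []

instance instDecEE (r s : ℕ) : Decidable (EE r s) := inferInstanceAs (Decidable (_ ∧ _ ∧ _))

/-- commutator relation with one factor -/
def E1 (r s l : ℕ) (c : ℤ) : Prop := s ≠ r ∧ s ≠ chevE6.neg r ∧ chevE6.commTerms r s = [(l, c, 1, 1)]

instance instDecE1 (r s l : ℕ) (c : ℤ) : Decidable (E1 r s l c) := inferInstanceAs (Decidable (_ ∧ _ ∧ _))

/-- the relations between the pairs `r, r'`, `d, d'`, `l, l'` -/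
def Rel (r r' d d' l l' : ℕ) (c c' : ℤ) : Prop :=
  E1 r d l c ∧ E1 r' d' l' c' ∧ EE r d' ∧ EE r' d ∧ EE r' l ∧ EE l d ∧ EE l' d' ∧ EE l' d ∧ EE l d'

instance instDecRel (r r' d d' l l' : ℕ) (c c' : ℤ) : Decidable (Rel r r' d d' l l' c c') :=
  inferInstanceAs (Decidable (_ ∧ _ ∧ _ ∧ _ ∧ _ ∧ _ ∧ _ ∧ _ ∧ _))

theorem rel1 : ∀ b, Rel (tab.B b) (tab.B (rB b)) (tab.B (dI b)) (tab.B (rB (dI b))) (tab.B (bI b)) (tab.B (rB (bI b)))
    (k1 b) (k1 b * eta (bI b) * eta b * eta (dI b)) := by decide +kernel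

theorem rel2 : ∀ b, Rel (tab.B (bI b)) (tab.B (rB (bI b))) (tab.B (tab.ng (dI b))) (tab.B (rB (tab.ng (dI b))))
    (tab.B b) (tab.B (rB b)) (k1 b) (k1 b * eta b * eta (bI b) * eta (dI b)) := by decide +kernel

theorem rel3 : ∀ b, EE (tab.B b) (tab.B (rB b)) ∧ EE (tab.B b) (tab.B (bI b)) ∧ EE (tab.B b) (tab.B (rB (bI b))) ∧
    EE (tab.B (rB b)) (tab.B (rB (bI b))) ∧ rB (rB b) = b ∧ eta (rB b) * eta b = 1 ∧
    eta (tab.ng (dI b)) = eta (dI b) ∧ eta b * eta b = 1 ∧ k1 b * k1 b = 1 := by decide +kernel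

end Cfsg.Agent.H172.SITwE6
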