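import Mathlib
import Cfsg.Agent.H172.SITwE6

/-!
# A better index bound for `²E₆(q)`: the proof
-/

set_option autoImplicit false

namespace Cfsg.Agent.H172.SITwE6

open MulAction Cfsg.Lie Cfsg.Agent.ChevalleyStructure
open Cfsg.Agent.ChevalleyStructure.Elts hiding x_add x_zero x_eq_one_iff
open Cfsg.Agent.ChevalleyStructure.TwE6Basic Cfsg.Agent.ChevalleyStructure.TwE6BN
open Cfsg.Agent.H934 Cfsg.Agent.H934.HeisTw Cfsg.Agent.H934.HeisRoot Cfsg.Agent.H934.HeisChev Cfsg.Agent.H934.HeisTwE6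
open Cfsg.Agent.H172.SITwAmp

universe u

variable {K : Type u} [Field K]

/-- root elements -/
noncomputable def R' (K : Type u) [Field K] : RH (GL chevE6.Idx K) K (Fin 20) (Fin 24) :=
  mapRH (tab.rh HeisE6.hD tab_ok K) (chevE6.group K).subtype Subtype.val_injective

theorem R'_y (b : Fin 24) (t : K) : (R' K).y b t = x (tab.B b) t := Units.ext rfl

theorem R'_x (i : Fin 20) (t : K) : (R' K).x i t = (R K).x i t := rfl

theorem R'_z (t : K) : (R' K).z t = (R K).z t := rfl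

/-! ### Commutator relations -/

theorem x_of_xe (r : ℕ) (t : K) : x r t = (xe HeisE6.hD r t : GL chevE6.Idx K) := Units.ext rfl

theorem xadd (r : ℕ) (s t : K) : x r (s + t) = x r s * x r t := by
  rw [x_of_xe, x_of_xe, x_of_xe, xe_add]
  rfl

theorem xnil {r s : ℕ} (hr : r < 72) (hs : s < 72) (h : EE r s) (t u : K) : x s u * x r t = x r t * x s u := by
  obtain ⟨h1, h2, h3⟩ := h
  have h4 := comm_nil (F := K) HeisE6.hD (r := r) (s := s) hr hs h1 h2 h3 t u
  rw [x_of_xe, x_of_xe, ← Subgroup.coe_mul, ← Subgroup.coe_mul, h4]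

theorem xone {r s l : ℕ} {c : ℤ} (hr : r < 72) (hs : s < 72) (h : E1 r s l c) (t u : K) :
    x s u * x r t = x r t * x s u * x l (-(c : K) * t * u) := by
  obtain ⟨h1, h2, h3⟩ := h
  have h4 := comm_single (F := K) HeisE6.hD (r := r) (s := s) hr hs h1 h2 h3 t u
  rw [x_of_xe, x_of_xe, x_of_xe, ← Subgroup.coe_mul, ← Subgroup.coe_mul, ← Subgroup.coe_mul, h4]

/-- conjugation of pairs -/
theorem conj_pair {Γ : Type*} [Group Γ] {a a' l l' d d' : Γ} (h1 : d * a = a * d * l) (h2 : d' * a' = a' * d' * l')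
    (h3 : d' * a = a * d') (h4 : d * a' = a' * d) (h5 : l * a' = a' * l) (h6 : d * l = l * d) (h7 : d' * l' = l' * d')
    (h8 : d * l' = l' * d) : d * d' * (a * a') * (d * d')⁻¹ = a * a' * (l * l') := by
  rw [mul_inv_eq_iff_eq_mul]
  calc d * d' * (a * a') = d * (d' * a) * a' := by simp only [mul_assoc]
    _ = (d * a) * (d' * a') := by rw [h3]; simp only [mul_assoc]
    _ = a * (d * l) * (a' * d' * l') := by rw [h1, h2]; simp only [mul_assoc]
    _ = a * l * (d * a') * d' * l' := by rw [h6]; simp only [mul_assoc]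
    _ = a * (l * a') * (d * (d' * l')) := by rw [h4]; simp only [mul_assoc]
    _ = a * a' * l * (d * l') * d' := by rw [h5, h7]; simp only [mul_assoc]
    _ = _ := by rw [h8]; simp only [mul_assoc]

theorem conj_rel {φ : K →+* K} {r r' d d' l l' : ℕ} {c c' er ed el : ℤ} (hr : r < 72) (hr' : r' < 72) (hd : d < 72)
    (hd' : d' < 72) (hl : l < 72) (hl' : l' < 72) (h : Rel r r' d d' l l' c c') (hc : c * el = c' * er * ed) (s u : K) :
    x d u * x d' ((ed : K) * φ u) * (x r s * x r' ((er : K) * φ s)) * (x d u * x d' ((ed : K) * φ u))⁻¹ =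
      x r s * x r' ((er : K) * φ s) * (x l (-(c : K) * u * s) * x l' ((el : K) * φ (-(c : K) * u * s))) := by
  obtain ⟨h1, h2, h3, h4, h5, h6, h7, h8, -⟩ := h
  have e1 : (el : K) * φ (-(c : K) * u * s) = -(c' : K) * ((er : K) * φ s) * ((ed : K) * φ u) := by
    have hc' : (c : K) * el = c' * er * ed := by exact_mod_cast congrArg (Int.cast (R := K)) hc
    rw [map_mul, map_mul, map_neg, map_intCast]
    calc (el : K) * (-(c : K) * φ u * φ s) = -((c : K) * el) * (φ u * φ s) := by ring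
      _ = _ := by rw [hc']; ring
  have e2 : -(c : K) * u * s = -(c : K) * s * u := by ring
  rw [e1, e2]
  exact conj_pair (xone hr hd h1 _ _) (xone hr' hd' h2 _ _) (xnil hr hd' h3 _ _) (xnil hr' hd h4 _ _)
    (xnil hr' hl h5 _ _) (xnil hl hd h6 _ _).symm.symm (xnil hl' hd' h7 _ _) (xnil hl' hd h8 _ _)

/-- conjugation of pairs, trivial case -/
theorem conj_pair' {Γ : Type*} [Group Γ] {a a' d d' : Γ} (h1 : d * a = a * d) (h2 : d' * a' = a' * d')
    (h3 : d' * a = a * d') (h4 : d * a' = a' * d) : d * d' * (a * a') * (d * d')⁻¹ = a * a' := by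
  rw [mul_inv_eq_iff_eq_mul]
  calc d * d' * (a * a') = d * (d' * a) * a' := by simp only [mul_assoc]
    _ = (d * a) * (d' * a') := by rw [h3]; simp only [mul_assoc]
    _ = a * (d * a') * d' := by rw [h1, h2]; simp only [mul_assoc]
    _ = _ := by rw [h4]; simp only [mul_assoc]

/-! ### The elements of the twisted group -/

/-- the element -/
noncomputable abbrev y (φ : K →+* K) (b : Fin 24) (t : K) : GL chevE6.Idx K :=
  Y (R' K) φ rB (fun b => (eta b : K)) b t

theorem y_def (φ : K →+* K) (b : Fin 24) (t : K) :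
    y φ b t = x (tab.B b) t * x (tab.B (rB b)) ((eta b : K) * φ t) := by
  show (R' K).y b t * (R' K).y (rB b) ((eta b : K) * φ t) = _
  rw [R'_y, R'_y]

theorem y_mem {q : ℕ} {φ : K →+* K} (hφ : ∀ t, φ t = t ^ q) (hqq : ∀ t : K, (t ^ q) ^ q = t) (b : Fin 24) (t : K) :
    y φ b t ∈ twistedE6 K q := by
  have h2 : ∀ t, φ (φ t) = t := fun t => by rw [hφ, hφ, hqq]
  obtain ⟨h3, -, -, -, h5, h6, -⟩ := rel3 b
  have hsg : ∀ (b : Fin 24) (t : K), sg φ (x (tab.B b) t) = x (tab.B (rB b)) ((eta b : K) * φ t) := by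
    intro b t
    have h := sg_x' φ ⟨tab.B b, tab_ok.B_lt b⟩ t
    rw [(tabB_rho b).1, (tabB_rho b).2] at h
    exact h
  rw [y_def]
  refine mem_of_go hφ hqq (wd b) _ _ (go_wd b) _ (mul_mem ?_ ?_) ?_
  · exact x_mem_rs (by simp) t
  · exact x_mem_rs (by simp) _
  · rw [mem_fix, map_mul, hsg, hsg, h5]
    simp only [map_mul, map_intCast]
    rw [h2, ← mul_assoc, ← Int.cast_mul, h6, Int.cast_one, one_mul]
    exact xnil (tab_ok.B_lt _) (tab_ok.B_lt _) h3 _ _

theorem y_add (φ : K →+* K) (b : Fin 24) (s t : K) : y φ b (s + t) = y φ b s * y φ b t := by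
  obtain ⟨h3, -⟩ := rel3 b
  rw [y_def, y_def, y_def, xadd, map_add, mul_add, xadd, mul_assoc, mul_assoc (x (tab.B b) s)]
  congr 1
  rw [← mul_assoc, ← mul_assoc]
  congr 1
  exact (xnil (tab_ok.B_lt _) (tab_ok.B_lt _) h3 _ _).symm

theorem hN (φ : K →+* K) (β : Fin 24) (v : Fin 20 → K) :
    sV φ rhoI (fun i => (eps i : K)) ((R' K).N β v) =
      (eta β : K) • (R' K).N (rB β) (sV φ rhoI (fun i => (eps i : K)) v) := by
  refine RH.pi_induction (p := fun v => sV φ rhoI (fun i => (eps i : K)) ((R' K).N β v) =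
      (eta β : K) • (R' K).N (rB β) (sV φ rhoI (fun i => (eps i : K)) v)) ?_ ?_ ?_ v
  · rw [map_zero, map_zero, map_zero, smul_zero]
  · intro v w hv hw
    rw [map_add, map_add, hv, hw, map_add, map_add, smul_add]
  · intro i t
    obtain ⟨h1, h2⟩ := tab_eq β i
    rw [sV_single]
    have hnx : (R' K).next = tab.next := rfl
    have hcc : ∀ β i, (R' K).c β i = -(tab.cc β i : K) := fun _ _ => rfl
    cases hn : tab.next β i with
    | none =>
      rw [hn] at h1
      rw [RH.N_single_none (R' K) (by rw [hnx]; exact hn), RH.N_single_none (R' K) (by rw [hnx]; exact h1), map_zero,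
        smul_zero]
    | some j =>
      rw [hn] at h1
      rw [RH.N_single_some (R' K) (by rw [hnx]; exact hn), RH.N_single_some (R' K) (by rw [hnx]; exact h1), sV_single,
        ← Pi.single_smul, hcc, hcc, smul_eq_mul, map_mul, map_neg, map_intCast]
      congr 1
      have h3 := h2 j hn
      have h3' : (eps j : K) * tab.cc β i = eta β * tab.cc (rB β) (rhoI i) * eps i := by
        exact_mod_cast congrArg (Int.cast (R := K)) h3
      calc (eps j : K) * (-(tab.cc β i : K) * φ t) = -((eps j : K) * tab.cc β i) * φ t := by ring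
        _ = _ := by rw [h3']; ring

/-! ### Overgroups -/

theorem y_conj (φ : K →+* K) (b : Fin 24) (u s : K) :
    y φ (dI b) u * y φ b s * (y φ (dI b) u)⁻¹ = y φ b s * y φ (bI b) (-(k1 b : K) * u * s) := by
  obtain ⟨-, -, -, -, -, -, -, h8, -⟩ := rel3 b
  obtain ⟨-, -, -, -, -, -, -, h8', -⟩ := rel3 (dI b)
  rw [y_def, y_def, y_def]
  refine conj_rel (tab_ok.B_lt _) (tab_ok.B_lt _) (tab_ok.B_lt _) (tab_ok.B_lt _) (tab_ok.B_lt _) (tab_ok.B_lt _)
    (rel1 b) ?_ s u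
  calc k1 b * eta (bI b) = k1 b * eta (bI b) * (eta b * eta b) * (eta (dI b) * eta (dI b)) := by rw [h8, h8']; ring
    _ = _ := by ring

theorem y_conj2 (φ : K →+* K) (b : Fin 24) (u s : K) :
    y φ (tab.ng (dI b)) u * y φ (bI b) s * (y φ (tab.ng (dI b)) u)⁻¹ =
      y φ (bI b) s * y φ b (-(k1 b : K) * u * s) := by
  obtain ⟨-, -, -, -, -, -, h7, -⟩ := rel3 b
  obtain ⟨-, -, -, -, -, -, -, h8, -⟩ := rel3 (bI b)
  obtain ⟨-, -, -, -, -, -, -, h8', -⟩ := rel3 (dI b)
  rw [y_def, y_def, y_def]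
  refine conj_rel (tab_ok.B_lt _) (tab_ok.B_lt _) (tab_ok.B_lt _) (tab_ok.B_lt _) (tab_ok.B_lt _) (tab_ok.B_lt _)
    (rel2 b) ?_ s u
  rw [h7]
  calc k1 b * eta b = k1 b * eta b * (eta (bI b) * eta (bI b)) * (eta (dI b) * eta (dI b)) := by rw [h8, h8']; ring
    _ = _ := by ring

theorem y_fix (φ : K →+* K) (b : Fin 24) (u s : K) :
    y φ (dI b) u * y φ (bI b) s * (y φ (dI b) u)⁻¹ = y φ (bI b) s := by
  obtain ⟨-, -, -, -, -, h6, h7, h8, h9⟩ := rel1 b
  have hl := tab_ok.B_lt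
  rw [y_def, y_def]
  exact conj_pair' (xnil (hl _) (hl _) h6 _ _) (xnil (hl _) (hl _) h7 _ _) (xnil (hl _) (hl _) h9 _ _)
    (xnil (hl _) (hl _) h8 _ _)

theorem y_fix2 (φ : K →+* K) (b : Fin 24) (u s : K) :
    y φ (tab.ng (dI b)) u * y φ b s * (y φ (tab.ng (dI b)) u)⁻¹ = y φ b s := by
  obtain ⟨-, -, -, -, -, h6, h7, h8, h9⟩ := rel2 b
  have hl := tab_ok.B_lt
  rw [y_def, y_def]
  exact conj_pair' (xnil (hl _) (hl _) h6 _ _) (xnil (hl _) (hl _) h7 _ _) (xnil (hl _) (hl _) h9 _ _)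
    (xnil (hl _) (hl _) h8 _ _)

theorem y_comm (φ : K →+* K) (b : Fin 24) (s t : K) : y φ b s * y φ (bI b) t = y φ (bI b) t * y φ b s := by
  obtain ⟨-, -, -, -, h5, -⟩ := rel1 b
  obtain ⟨-, h1, h2, h3, -⟩ := rel3 b
  have hl := tab_ok.B_lt
  rw [y_def, y_def]
  have h := conj_pair' (xnil (K := K) (hl _) (hl _) h1 s t) (xnil (hl _) (hl _) h3 ((eta b : K) * φ s)
    ((eta (bI b) : K) * φ t)) (xnil (hl _) (hl _) h2 s ((eta (bI b) : K) * φ t)) (xnil (hl _) (hl _) h5 ((eta b : K) * φ s) t)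
  exact (mul_inv_eq_iff_eq_mul.1 h).symm

theorem pair_index [Fintype K] {G : Subgroup (GL chevE6.Idx K)} {φ : K →+* K}
    (M : Subgroup (P0 (R' K) G φ rB (fun b => (eta b : K)))) (hQ : QQ (R' K) G φ rB (fun b => (eta b : K)) ≤ M)
    (hM : M ≠ ⊤) : Fintype.card K ^ 2 ≤ M.index := by
  classical
  have : Finite (GL chevE6.Idx K) := inferInstance
  obtain ⟨⟨b, t0⟩, hk⟩ := exists_not_mem hQ hM
  obtain ⟨-, -, -, -, -, -, -, -, h9⟩ := rel3 b
  let f : Fin 24 → K → P0 (R' K) G φ rB (fun b => (eta b : K)) := fun b t => ⟨y φ b t, Y_mem b t⟩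
  have hk1 : -(k1 b : K) ≠ 0 := neg_ne_zero.2 (cast_ne_zero h9)
  have h := card_le_of_pair M (f b) (f (bI b)) (f (dI b)) (f (tab.ng (dI b)))
    (fun s t => Subtype.ext (y_add φ b s t)) (fun s t => Subtype.ext (y_add φ _ s t))
    (fun s t => Subtype.ext (y_comm φ b s t)) hk1 hk1 (fun u s => Subtype.ext (y_conj φ b u s))
    (fun u s => Subtype.ext (y_fix φ b u s)) (fun u s => Subtype.ext (y_conj2 φ b u s))
    (fun u s => Subtype.ext (y_fix2 φ b u s)) (s0 := t0) hk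
  rwa [Nat.card_eq_fintype_card] at h

/-- **The better bound for `²E₆(q)`.** -/
theorem index_2E6 {K : Type u} [Field K] [Fintype K] {q : ℕ} (hq : IsPrimePow q) (hK : Fintype.card K = q ^ 2)
    (hs : IsSimpleGroup ↥(Cfsg.Lie.twistedE6 K q)) (L : Subgroup ↥(Cfsg.Lie.twistedE6 K q)) (hL : L ≠ ⊤) :
    q ^ 30 ≤ L.index ^ 2 := by
  classical
  obtain ⟨φ, hφ, hqq⟩ := exists_frob hq hK
  have : Finite (GL chevE6.Idx K) := inferInstance
  have h2 : ∀ t, φ (φ t) = t := fun t => by rw [hφ, hφ, hqq]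
  have hVn := sV_two (K := K) (φ := φ) h2
  obtain ⟨b, hb⟩ := exists_distinct hq.one_lt (n := 2) (by norm_num) hφ hK
  obtain ⟨b0, hb0⟩ := exists_tr_one (by norm_num) hb (iterate_frob_n hφ hK)
  have T := of_trace (R' K) (sg φ) (twistedE6 K q) φ rhoI (fun i => (eps i : K)) 2 (sig_R φ) (sig_z φ)
    (fun g hg => twisted_le_fix φ hφ hqq hg) (z_mem hφ hqq) hVn hb0 (fun i t => lift_two (R' K) (lift hφ hqq i t))
  have hμ : φ b ≠ b := fun h => by
    have := hb 1 (by norm_num) 0 (by norm_num) h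
    omega
  have hb1 : b0 + φ b0 = 1 := by
    have h := tr_two (φ : K →+ K) b0
    rw [hb0] at h
    exact h.symm
  have h1 := amp_tw T h2 (fun v => hVn v) hb1 hμ (hN φ)
    (fun β t => y_mem hφ hqq β t) (MonoidHom.id _) Function.injective_id hL
    (fun a b ha hb ha0 hb0 => by
      obtain ⟨h, hh, he⟩ := z_conj hφ ha hb ha0 hb0
      exact isConj_iff.2 ⟨⟨h, hh⟩, Subtype.ext he⟩) (Fintype.card K ^ 2) (fun M hQ hM => pair_index M hQ hM)
  have hc1 : q ≤ Nat.card {a : K // φ a = a} := by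
    have h3 := card_le_pow (M := K) (F := K) (by norm_num) hb (s := (φ : K →+ K)) (fun c v => map_mul φ c v)
      (iterate_frob_n hφ hK)
    rw [Nat.card_eq_fintype_card, hK] at h3
    exact le_of_pow_le_pow_left₀ (by norm_num) (by omega) h3
  have hc2 : q ^ 20 ≤ Nat.card {v : Fin 20 → K // sV φ rhoI (fun i => (eps i : K)) v = v} := by
    have h3 := card_le_pow (M := Fin 20 → K) (by norm_num) hb (s := sV φ rhoI (fun i => (eps i : K)))
      (sV_smul φ rhoI _) hVn
    rw [Nat.card_fun, Nat.card_eq_fintype_card (α := K), Nat.card_eq_fintype_card (α := Fin 20), Fintype.card_fin, hK,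
      ← pow_mul, mul_comm, pow_mul] at h3
    exact le_of_pow_le_pow_left₀ (by norm_num) (by omega) h3
  have hq1 : 1 ≤ q := hq.pos
  rcases h1 with h1 | h1
  · have h3 : q ^ 21 ≤ L.index := by
      calc q ^ 21 = q ^ 20 * q := by ring
        _ ≤ _ := Nat.mul_le_mul hc2 hc1
        _ ≤ _ := h1
    calc q ^ 30 ≤ q ^ 42 := Nat.pow_le_pow_right hq1 (by norm_num)
      _ = (q ^ 21) ^ 2 := by ring
      _ ≤ _ := Nat.pow_le_pow_left h3 2
  · calc q ^ 30 = ((q ^ 2) ^ 2) ^ 2 * (q * (q ^ 20 * q)) := by ring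
      _ ≤ ((q ^ 2) ^ 2) ^ 2 * _ := Nat.mul_le_mul_left _ (Nat.mul_le_mul hc1 (Nat.mul_le_mul hc2 hc1))
      _ ≤ _ := by rw [hK] at h1; exact h1

end Cfsg.Agent.H172.SITwE6
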