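import Mathlib
import Cfsg.Agent.H172.SITw
import Cfsg.Agent.H172.SITwE6b

/-!
# `²E₆(q)` in cross characteristic
-/

set_option autoImplicit false

namespace Cfsg.Agent.H172.SI

open Cfsg.Lie Cfsg.Agent.H903.SylMeet Cfsg.Agent.ChevalleyStructure Cfsg.Agent.ChevalleyStructure.Elts

variable {p : ℕ} [hp : Fact p.Prime]

theorem neg_one_ne : (-1 : ZMod 5) ≠ 1 := by decide

/-- `²E₆(q)`, cross characteristic. -/
theorem cross_2E6 {K : Type} [Field K] [Fintype K] (q : ℕ) (hq : IsPrimePow q) (hK : Fintype.card K = q ^ 2)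
    (hp5 : 5 ≤ p) (hpK : ¬ p ∣ q) : Meet p ↥(twistedE6 K q) := by
  classical
  refine cross_2E6_of q hq hK hp5 hpK ?_
  intro h5 hq5 hout
  subst h5
  have : Finite (GL chevE6.Idx K) := inferInstance
  obtain ⟨hs, hT⟩ := Cfsg.Agent.S1070.result hq hK
  have hq2 : 2 ≤ q := hq.two_le
  have hq4 : 4 ≤ q := by have := Nat.le_of_dvd (by omega) hq5; omega
  have hcard := Cfsg.Agent.S1066.result hq hK
  have hpow1 : ∀ k : ℕ, (q ^ k + 1) * (q ^ k - 1) = q ^ (2 * k) - 1 := by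
    intro k
    have := Nat.sq_sub_sq (q ^ k) 1
    rw [one_pow, ← pow_mul, mul_comm k 2] at this
    exact this.symm
  have hcd : Nat.card ↥(twistedE6 K q) ∣ (q ^ 5 ^ 0) ^ 36 * pr (q ^ 5 ^ 0) [2, 6, 8, 10, 12, 18] := by
    rw [pow_zero, pow_one]
    refine ⟨Nat.gcd 3 (q + 1) * ((q ^ 5 - 1) * (q ^ 9 - 1)), ?_⟩
    have h7 : pr q [2, 6, 8, 10, 12, 18] = (q ^ 2 - 1) * (q ^ 6 - 1) * (q ^ 8 - 1) *
        (q ^ (2 * 5) - 1) * (q ^ 12 - 1) * (q ^ (2 * 9) - 1) := by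
      simp [pr, mul_assoc]
    rw [h7, ← hpow1, ← hpow1]
    calc _ = (q ^ 36 * (q ^ 2 - 1) * (q ^ 5 + 1) * (q ^ 6 - 1) * (q ^ 8 - 1) *
        (q ^ 9 + 1) * (q ^ 12 - 1)) * ((q ^ 5 - 1) * (q ^ 9 - 1)) := by ring
      _ = _ := by rw [← hcard]; ring
  have hv : padicValNat 5 (Nat.card (Cfsg.Out ↥(twistedE6 K q))) = 0 := padicValNat.eq_zero_of_not_dvd hout
  have hb := vbound (p := 5) (by decide) hpK hq2 (ds := [2, 6, 8, 10, 12, 18]) (by simp) hcd hv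
  have hord : orderOf (q : ZMod 5) = 2 := by
    have h1 : ((q + 1 : ℕ) : ZMod 5) = 0 := (ZMod.natCast_eq_zero_iff _ _).2 hq5
    rw [Nat.cast_add, Nat.cast_one] at h1
    have h2 : (q : ZMod 5) = -1 := eq_neg_of_add_eq_zero_left h1
    rw [h2]
    have : Fact (Nat.Prime 2) := ⟨Nat.prime_two⟩
    exact orderOf_eq_prime (neg_one_sq) neg_one_ne
  have hw : 5 ^ wt 5 (orderOf (q : ZMod 5)) [2, 6, 8, 10, 12, 18] ≤ 5 :=
    (Nat.pow_le_pow_right (by norm_num) (wt_le _ _ (by simp))).trans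
      (pow_v_le_of (a := 9) (b := 4) (c := 5) hp5 (by norm_num) (by norm_num))
  have hb2 : 5 ^ (padicValNat 5 (Nat.card ↥(twistedE6 K q)) + padicValNat 5 (Nat.card (Cfsg.Out ↥(twistedE6 K q)))) ≤
      5 * (q + 1) ^ 6 := by
    refine hb.trans ((bound_le (W := 5) (l := 6) (by norm_num) ?_ ?_ hw).trans (by simp))
    · rw [hord]; decide
    · rw [hord]; decide
  have hm : ∀ H : Subgroup ↥(twistedE6 K q), H ≠ ⊤ → q ^ 30 ≤ H.index ^ 2 := fun H hH =>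
    Cfsg.Agent.H172.SITwE6.index_2E6 hq hK hs H hH
  refine meet_of_num_sq hp5 hT hm hb2 ?_ (by positivity)
  have := num_ineq (C := 625) (A := 0) (B := 24) (M := 30) (D := 256) (s₀ := 1) (b := 4) (by norm_num)
    (by norm_num) (by norm_num) (by norm_num) (by norm_num) le_rfl hq4
  calc (5 * (q + 1) ^ 6) ^ 4 = 625 * 1 ^ 0 * (q + 1) ^ 24 := by ring
    _ ≤ 256 * q ^ (30 * 1) := this.le
    _ = _ := by ring

end Cfsg.Agent.H172.SI
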