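import Cfsg.Agent.H172.SIMain

/-!
helper172, for S5762: `G₂`, `F₄`, `E₇`, `E₈` in cross characteristic, and `E₆` except `p = 5 ∣ q - 1`.
-/

set_option autoImplicit false

namespace Cfsg.Agent.H172.SI

open Cfsg.Lie Cfsg.Agent.H903.SylMeet

variable {p : ℕ} [hp : Fact p.Prime]

theorem not_dvd_of_v {n : ℕ} (hn : n ≠ 0) (h : padicValNat p n = 0) : ¬ p ∣ n := by
  intro hd
  have := one_le_padicValNat_of_dvd hn hd
  omega

theorem five_le_pow (hp5 : 5 ≤ p) {j : ℕ} (hj : j ≠ 0) : 5 ≤ p ^ j := hp5.trans (Nat.le_self_pow hj _)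

theorem wt_zero_of {e : ℕ} : ∀ {ds : List ℕ}, (∀ k ∈ ds, ¬ p ∣ k) → wt p e ds = 0 := by
  intro ds
  induction ds with
  | nil => intro _; rfl
  | cons k ds ih =>
    intro h
    rw [wt, ih fun k hk => h k (by simp [hk]), padicValNat.eq_zero_of_not_dvd (h k (by simp))]
    simp

theorem ndvd_of {ds : List ℕ} (P : List ℕ) (hP : ∀ k ∈ ds, ∀ r ∈ Finset.range (k + 1), r.Prime → r ∣ k → r ∈ P)
    (h : p ∉ P) : ∀ k ∈ ds, 0 < k → ¬ p ∣ k := by
  intro k hk hk0 hd
  exact h (hP k hk p (Finset.mem_range.2 (Nat.lt_succ_of_le (Nat.le_of_dvd hk0 hd))) hp.out hd)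

theorem hout1 {D : ChevalleyDatum} {F : Type} [Field F] [Fintype F] {c f j f' : ℕ}
    (hc : ¬ p ∣ c) (hf : f = p ^ j * f') (hf' : ¬ p ∣ f') (h : Nat.card (Cfsg.Out ↥(D.group F)) = c * f) :
    padicValNat p (Nat.card (Cfsg.Out ↥(D.group F))) = j := by
  rw [h]
  exact v_mul_coprime hc hf hf'

theorem card_dvd {D : ChevalleyDatum} {d : ℕ → ℕ} {N : ℕ} {ds : List ℕ} (h : Deg D d N ds) {F : Type} [Field F]
    [Fintype F] {q : ℕ} (hq : Fintype.card F = q) : Nat.card ↥(D.group F) ∣ q ^ N * pr q ds := by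
  subst hq
  have := h.card (F := F)
  exact ⟨d (Fintype.card F), by rw [mul_comm (Nat.card _), this]; rfl⟩

theorem order_dvd {q : ℕ} (hq : ¬ p ∣ q) : orderOf (q : ZMod p) ∣ p - 1 :=
  ZMod.orderOf_dvd_card_sub_one (natCast_ne_zero hq)

theorem cross_G2 {F : Type} [Field F] [Fintype F] (hF : 3 ≤ Fintype.card F) (hp5 : 5 ≤ p)
    (hpF : ¬ p ∣ Fintype.card F) : Meet p ↥(chevG2.group F) := by
  classical
  have : Finite (GL chevG2.Idx F) := inferInstance
  obtain ⟨hs, hT⟩ := Cfsg.Agent.S1055.result (F := F) (by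
    by_contra hcon
    push Not at hcon
    have h5 : (Finset.univ : Finset F) ⊆ {0, 1} := fun a _ => by
      by_cases h6 : a = 0
      · simp [h6]
      · simp [hcon a h6]
    have h4 := Finset.card_le_card h5
    rw [Finset.card_univ] at h4
    have h6 : ({0, 1} : Finset F).card ≤ 2 := Finset.card_le_two
    omega)
  obtain ⟨ℓ, f, q, j, f', hℓ, hch, hf, hf', hf0, hFc, hqd, hFq, hpq, hq2⟩ := exists_split (p := p) F hpF
  have : Fact ℓ.Prime := ⟨hℓ⟩
  have hout := Cfsg.Agent.S2121.result ℓ f hFc (by omega)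
  have hv : padicValNat p (Nat.card (Cfsg.Out ↥(chevG2.group F))) = j := by
    split_ifs at hout
    · exact hout1 (not_dvd_of_lt (by norm_num) (by omega)) hf hf' hout
    · exact hout1 (c := 1) (not_dvd_of_lt (by norm_num) (by omega)) hf hf' (by rw [one_mul]; exact hout)
  have hnd : ∀ k ∈ [2, 6], ¬ p ∣ k := fun k hk => ndvd_of [2, 3] (by decide) (by simp; omega) k hk
    (by fin_cases hk <;> norm_num)
  rcases Nat.eq_zero_or_pos j with hj | hj
  · exact meet_of_comm_sub hT (not_dvd_of_v Nat.card_pos.ne' (by rw [hv, hj]))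
      (fun Q hQ => deg_G2.comm hnd hpF Q hQ)
  have hb := vbound (odd_of_five hp5) hpq hq2 (ds := [2, 6]) (by simp) (card_dvd deg_G2 hFq) hv
  rw [wt_zero_of hnd, pow_zero] at hb
  have hs5 : 5 ≤ p ^ j := five_le_pow hp5 hj.ne'
  have he0 := order_pos hpq
  have hm : ∀ H : Subgroup ↥(chevG2.group F), H ≠ ⊤ → (q ^ p ^ j) ^ 2 ≤ H.index := fun H hH => by
    have := Cfsg.Agent.H599.IdxG2.sq_le hs H hH
    rwa [hFq] at this
  have hm0 : 0 < (q ^ p ^ j) ^ 2 := by positivity
  set e := orderOf (q : ZMod p) with he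
  have hpow : (q ^ p ^ j) ^ 2 = q ^ (2 * p ^ j) := by rw [← pow_mul, mul_comm]
  rcases Nat.lt_or_ge 2 e with h3 | h3
  · -- `e ≥ 3`, so `p ≥ 7`
    by_cases h7 : 7 ≤ p
    · have hs7 : 7 ≤ p ^ j := h7.trans (Nat.le_self_pow hj.ne' _)
      have hn := nm_check (ds := [2, 6]) (M := 6) (by decide) (fun e n => 2 < e → n ≤ 1 ∧ Nat.totient e * n ≤ 2)
        (fun e _ => by simp) (by decide) e he0 h3
      refine meet_of_num hp5 hT hm (hb.trans (bound_le' (by omega) hn.1 hn.2 le_rfl)) ?_ hm0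
      have := num_ineq (C := 1) (A := 4) (B := 4) (M := 2) (D := 16) (s₀ := 7) (b := 2) (by norm_num) (by norm_num)
        (by norm_num) (by norm_num) (by norm_num) hs7 hq2
      rw [hpow]
      calc (1 * (p ^ j) ^ (1 + 1) * (q + 1) ^ 2) ^ 2 = 1 * (p ^ j) ^ 4 * (q + 1) ^ 4 := by ring
        _ ≤ _ := this.le
    · have h5 : p = 5 := by
        have h1 : p ≠ 6 := by rintro rfl; exact absurd hp.out (by norm_num)
        omega
      have h4 : e ∣ 4 := by
        have h6 : e ∣ p - 1 := order_dvd hpq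
        have h8 : p - 1 = 4 := by omega
        rwa [h8] at h6
      have h4' := Nat.le_of_dvd (by norm_num) h4
      have hn : nm e [2, 6] = 0 := by
        interval_cases e
        · exact absurd h4 (by norm_num)
        · decide
      rw [hn, pow_zero, mul_one, mul_one] at hb
      refine meet_of_num hp5 hT hm hb ?_ hm0
      have := num_ineq (C := 1) (A := 2) (B := 0) (M := 2) (D := 16) (s₀ := 5) (b := 2) (by norm_num) (by norm_num)
        (by norm_num) (by norm_num) (by norm_num) hs5 hq2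
      rw [hpow]
      simpa using this.le
  · have hq4 : 4 ≤ q := by have := le_of_order_le_two hpq hq2 h3; omega
    have hn := nm_check (ds := [2, 6]) (M := 6) (by decide) (fun e n => e ≤ 2 → n ≤ 2 ∧ Nat.totient e * n ≤ 2)
        (fun e _ => by simp) (by decide) e he0 h3
    refine meet_of_num hp5 hT hm (hb.trans (bound_le' (by omega) hn.1 hn.2 le_rfl)) ?_ hm0
    have := num_ineq (C := 1) (A := 6) (B := 4) (M := 2) (D := 16) (s₀ := 5) (b := 4) (by norm_num) (by norm_num)
      (by norm_num) (by norm_num) (by norm_num) hs5 hq4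
    rw [hpow]
    calc (1 * (p ^ j) ^ (2 + 1) * (q + 1) ^ 2) ^ 2 = 1 * (p ^ j) ^ 6 * (q + 1) ^ 4 := by ring
      _ ≤ _ := this.le

theorem pr_pos_aux {ds : List ℕ} (h : ∀ k ∈ ds, 0 < k) : ∀ k ∈ ds, 0 < k := h

theorem cross_F4 {F : Type} [Field F] [Fintype F] (hp5 : 5 ≤ p)
    (hpF : ¬ p ∣ Fintype.card F) : Meet p ↥(chevF4.group F) := by
  classical
  have : Finite (GL chevF4.Idx F) := inferInstance
  obtain ⟨hs, hT⟩ := Cfsg.Agent.S1054.result (F := F) chevF4 (by simp)
  obtain ⟨ℓ, f, q, j, f', hℓ, hch, hf, hf', hf0, hFc, hqd, hFq, hpq, hq2⟩ := exists_split (p := p) F hpF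
  have : Fact ℓ.Prime := ⟨hℓ⟩
  have hout := Cfsg.Agent.S2122.result ℓ f hFc
  have hv : padicValNat p (Nat.card (Cfsg.Out ↥(chevF4.group F))) = j := by
    refine hout1 (not_dvd_of_lt (Nat.gcd_pos_of_pos_left _ (by norm_num)) ?_) hf hf' hout
    have := Nat.gcd_le_left ℓ (show 0 < 2 by norm_num)
    omega
  have hnd : ∀ k ∈ [2, 6, 8, 12], ¬ p ∣ k := fun k hk => ndvd_of [2, 3] (by decide) (by simp; omega) k hk
    (by fin_cases hk <;> norm_num)
  rcases Nat.eq_zero_or_pos j with hj | hj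
  · exact meet_of_comm_sub hT (not_dvd_of_v Nat.card_pos.ne' (by rw [hv, hj]))
      (fun Q hQ => deg_F4.comm hnd hpF Q hQ)
  have hb := vbound (odd_of_five hp5) hpq hq2 (ds := [2, 6, 8, 12]) (by simp) (card_dvd deg_F4 hFq) hv
  rw [wt_zero_of hnd, pow_zero] at hb
  have hs5 : 5 ≤ p ^ j := five_le_pow hp5 hj.ne'
  have he0 := order_pos hpq
  have hm : ∀ H : Subgroup ↥(chevF4.group F), H ≠ ⊤ → 2 * (q ^ p ^ j) ^ 5 ≤ H.index := fun H hH => by
    have := Cfsg.Agent.H599.IdxF4.two_mul_le hs H hH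
    rwa [hFq] at this
  have hm0 : 0 < 2 * (q ^ p ^ j) ^ 5 := by positivity
  set e := orderOf (q : ZMod p) with he
  have hpow : 16 * (2 * (q ^ p ^ j) ^ 5) = 32 * q ^ (5 * p ^ j) := by rw [← pow_mul, mul_comm (p ^ j) 5]; ring
  rcases Nat.lt_or_ge 2 e with h3 | h3
  · have hn := nm_check (ds := [2, 6, 8, 12]) (M := 12) (by decide)
      (fun e n => 2 < e → n ≤ 2 ∧ Nat.totient e * n ≤ 4) (fun e _ => by simp) (by decide) e he0 h3
    refine meet_of_num hp5 hT hm (hb.trans (bound_le' (by omega) hn.1 hn.2 le_rfl)) ?_ hm0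
    have := num_ineq (C := 1) (A := 6) (B := 8) (M := 5) (D := 32) (s₀ := 5) (b := 2) (by norm_num) (by norm_num)
      (by norm_num) (by norm_num) (by norm_num) hs5 hq2
    rw [hpow]
    calc (1 * (p ^ j) ^ (2 + 1) * (q + 1) ^ 4) ^ 2 = 1 * (p ^ j) ^ 6 * (q + 1) ^ 8 := by ring
      _ ≤ _ := this.le
  · have hq4 : 4 ≤ q := by have := le_of_order_le_two hpq hq2 h3; omega
    have hn := nm_check (ds := [2, 6, 8, 12]) (M := 12) (by decide)
      (fun e n => e ≤ 2 → n ≤ 4 ∧ Nat.totient e * n ≤ 4) (fun e _ => by simp) (by decide) e he0 h3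
    refine meet_of_num hp5 hT hm (hb.trans (bound_le' (by omega) hn.1 hn.2 le_rfl)) ?_ hm0
    have := num_ineq (C := 1) (A := 10) (B := 8) (M := 5) (D := 32) (s₀ := 5) (b := 4) (by norm_num) (by norm_num)
      (by norm_num) (by norm_num) (by norm_num) hs5 hq4
    rw [hpow]
    calc (1 * (p ^ j) ^ (4 + 1) * (q + 1) ^ 4) ^ 2 = 1 * (p ^ j) ^ 10 * (q + 1) ^ 8 := by ring
      _ ≤ _ := this.le

/-- `p ^ j ≥ 5` : the case of type `E`, uniform. -/
theorem big_case {T : Type*} [Group T] [Finite T] [IsSimpleGroup T] (hp5 : 5 ≤ p) (hT : ¬ IsMulCommutative T)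
    {q j N M l W L : ℕ} (hj : 0 < j) (hpq : ¬ p ∣ q) (hq2 : 2 ≤ q) {ds : List ℕ} (hds : ∀ k ∈ ds, 0 < k ∧ k ≤ L)
    (hcard : Nat.card T ∣ (q ^ p ^ j) ^ N * pr (q ^ p ^ j) ds)
    (hout : padicValNat p (Nat.card (Cfsg.Out T)) = j)
    (hm : ∀ H : Subgroup T, H ≠ ⊤ → 2 * (q ^ p ^ j) ^ M ≤ H.index)
    (hn : ∀ e ∈ Finset.Icc 1 L, nm e ds ≤ l ∧ Nat.totient e * nm e ds ≤ l)
    {a b : ℕ} (hW : ds.prod = 2 ^ a * 3 ^ b * W) (hW0 : 0 < W)
    (h1 : 2 * l ≤ M * 5) (h2 : W ^ 2 * 5 ^ (2 * l + 2) * 3 ^ (2 * l) < 32 * 2 ^ (M * 5))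
    (h3 : 6 ^ (2 * l + 2) ≤ 2 ^ M * 5 ^ (2 * l + 2)) : Meet p T := by
  have hb := vbound (odd_of_five hp5) hpq hq2 (fun k hk => (hds k hk).1) hcard hout
  have hs5 : 5 ≤ p ^ j := five_le_pow hp5 hj.ne'
  have he0 := order_pos hpq
  have hn' := nm_check hds (fun e n => n ≤ l ∧ Nat.totient e * n ≤ l) (fun e => by simp) hn _ he0
  have hw : p ^ wt p (orderOf (q : ZMod p)) ds ≤ W :=
    (Nat.pow_le_pow_right hp.out.pos (wt_le _ ds fun k hk => (hds k hk).1)).trans (pow_v_le_of hp5 hW hW0)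
  have hq0 : 0 < q := by omega
  refine meet_of_num hp5 hT hm (hb.trans (bound_le (by omega) hn'.1 hn'.2 hw)) ?_ (by positivity)
  have := num_ineq (C := W ^ 2) (A := 2 * l + 2) (B := 2 * l) (M := M) (D := 32) (s₀ := 5) (b := 2) (by norm_num)
    (by norm_num) h1 h2 h3 hs5 hq2
  calc (W * (p ^ j) ^ (l + 1) * (q + 1) ^ l) ^ 2 = W ^ 2 * (p ^ j) ^ (2 * l + 2) * (q + 1) ^ (2 * l) := by ring
    _ ≤ 32 * q ^ (M * p ^ j) := this.le
    _ = 16 * (2 * (q ^ p ^ j) ^ M) := by rw [← pow_mul, mul_comm (p ^ j) M]; ring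

/-- the numeric criterion for `j = 0` -/
theorem small_case {T : Type*} [Group T] [Finite T] [IsSimpleGroup T] (hp5 : 5 ≤ p) (hT : ¬ IsMulCommutative T)
    {q N M b W k B : ℕ} (hpq : ¬ p ∣ q) (hq2 : 2 ≤ q) {ds : List ℕ} (hds : ∀ k ∈ ds, 0 < k)
    (hcard : Nat.card T ∣ q ^ N * pr q ds)
    (hout : padicValNat p (Nat.card (Cfsg.Out T)) = 0)
    (hm : ∀ H : Subgroup T, H ≠ ⊤ → 2 * q ^ M ≤ H.index)
    (hφ : Nat.totient (orderOf (q : ZMod p)) * nm (orderOf (q : ZMod p)) ds = k)
    (hw : p ^ wt p (orderOf (q : ZMod p)) ds = W) (hb0 : 1 ≤ b) (hbq : b ≤ q) (hkB : B = 2 * k)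
    (h1 : B ≤ M) (h2 : W ^ 2 * (b + 1) ^ B < 32 * b ^ M) : Meet p T := by
  have hcard' : Nat.card T ∣ (q ^ p ^ 0) ^ N * pr (q ^ p ^ 0) ds := by simpa using hcard
  have hb := vbound (odd_of_five hp5) hpq hq2 hds hcard' hout
  rw [pow_zero, one_mul, one_mul, ← pow_mul, hφ, hw] at hb
  have hq0 : 0 < q := by omega
  refine meet_of_num hp5 hT hm hb ?_ (by positivity)
  have := num_ineq (C := W ^ 2) (A := 0) (B := B) (M := M) (D := 32) (s₀ := 1) (b := b) hb0
    (by norm_num) (by omega) (by simpa using h2) (by simpa using Nat.one_le_pow _ _ hb0) le_rfl hbq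
  subst hkB
  calc ((q + 1) ^ k * W) ^ 2 = W ^ 2 * 1 ^ 0 * (q + 1) ^ (2 * k) := by ring
    _ ≤ 32 * q ^ (M * 1) := this.le
    _ = 16 * (2 * q ^ M) := by rw [mul_one]; ring

theorem cross_E7 {F : Type} [Field F] [Fintype F] (hp5 : 5 ≤ p)
    (hpF : ¬ p ∣ Fintype.card F) : Meet p ↥(chevE7.group F) := by
  classical
  have : Finite (GL chevE7.Idx F) := inferInstance
  obtain ⟨hs, hT⟩ := Cfsg.Agent.S1054.result (F := F) chevE7 (by simp)
  obtain ⟨ℓ, f, q, j, f', hℓ, hch, hf, hf', hf0, hFc, hqd, hFq, hpq, hq2⟩ := exists_split (p := p) F hpF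
  have : Fact ℓ.Prime := ⟨hℓ⟩
  have hout := Cfsg.Agent.S2124.result ℓ f hFc
  have hv : padicValNat p (Nat.card (Cfsg.Out ↥(chevE7.group F))) = j := by
    refine hout1 (not_dvd_of_lt (Nat.gcd_pos_of_pos_left _ (by norm_num)) ?_) hf hf' hout
    have := Nat.gcd_le_left (ℓ ^ f - 1) (show 0 < 2 by norm_num)
    omega
  have hm : ∀ H : Subgroup ↥(chevE7.group F), H ≠ ⊤ → 2 * (q ^ p ^ j) ^ 17 ≤ H.index := fun H hH => by
    have := Cfsg.Agent.H934.HeisE7.two_mul_le hs H hH
    rwa [hFq] at this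
  rcases Nat.eq_zero_or_pos j with hj | hj
  · subst hj
    simp only [pow_zero, pow_one] at hFq hm
    by_cases h57 : p = 5 ∨ p = 7
    · have hcd := card_dvd deg_E7 hFq
      have hed := order_dvd hpq
      have he0 := order_pos hpq
      have h2q := fun h => le_of_order_le_two hpq hq2 h
      have key : ∀ (k W b B : ℕ), Nat.totient (orderOf (q : ZMod p)) * nm (orderOf (q : ZMod p))
          [2, 6, 8, 10, 12, 14, 18] = k → p ^ wt p (orderOf (q : ZMod p)) [2, 6, 8, 10, 12, 14, 18] = W →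
          1 ≤ b → b ≤ q → B = 2 * k → B ≤ 17 → W ^ 2 * (b + 1) ^ B < 32 * b ^ 17 → Meet p ↥(chevE7.group F) :=
        fun k W b B a1 a2 a3 a4 a5 a6 a7 => small_case hp5 hT hpq hq2 (by simp) hcd hv hm a1 a2 a3 a4 a5 a6 a7
      generalize orderOf (q : ZMod p) = e at *
      rcases h57 with rfl | rfl
      · have hele := Nat.le_of_dvd (by norm_num) hed
        interval_cases e
        · exact key 7 5 4 14 (by decide) (by decide +kernel) (by norm_num) (by have := h2q (by norm_num); omega)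
            (by norm_num) (by norm_num) (by norm_num)
        · exact key 7 5 4 14 (by decide) (by decide +kernel) (by norm_num) (by have := h2q (by norm_num); omega)
            (by norm_num) (by norm_num) (by norm_num)
        · exact absurd hed (by norm_num)
        · exact key 4 1 2 8 (by decide) (by decide +kernel) (by norm_num) hq2
            (by norm_num) (by norm_num) (by norm_num)
      · have hele := Nat.le_of_dvd (by norm_num) hed
        interval_cases e
        · exact key 7 7 6 14 (by decide) (by decide +kernel) (by norm_num) (by have := h2q (by norm_num); omega)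
            (by norm_num) (by norm_num) (by norm_num)
        · exact key 7 7 6 14 (by decide) (by decide +kernel) (by norm_num) (by have := h2q (by norm_num); omega)
            (by norm_num) (by norm_num) (by norm_num)
        · exact key 6 1 2 12 (by decide) (by decide +kernel) (by norm_num) hq2
            (by norm_num) (by norm_num) (by norm_num)
        · exact absurd hed (by norm_num)
        · exact absurd hed (by norm_num)
        · exact key 6 1 2 12 (by decide) (by decide +kernel) (by norm_num) hq2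
            (by norm_num) (by norm_num) (by norm_num)
    · exact meet_of_comm_sub hT (not_dvd_of_v Nat.card_pos.ne' hv)
        (fun Q hQ => deg_E7.comm (fun k hk => ndvd_of [2, 3, 5, 7] (by decide) (by simp; omega) k hk
          (by fin_cases hk <;> norm_num)) hpF Q hQ)
  · exact big_case (N := 63) (M := 17) (l := 7) (W := 35) (L := 18) (ds := [2, 6, 8, 10, 12, 14, 18]) hp5 hT hj hpq
      hq2 (by decide) (card_dvd deg_E7 hFq) hv hm (by decide) (a := 10) (b := 4) (by norm_num) (by norm_num)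
      (by norm_num) (by norm_num) (by norm_num)

theorem cross_E8 {F : Type} [Field F] [Fintype F] (hp5 : 5 ≤ p)
    (hpF : ¬ p ∣ Fintype.card F) : Meet p ↥(chevE8.group F) := by
  classical
  have : Finite (GL chevE8.Idx F) := inferInstance
  obtain ⟨hs, hT⟩ := Cfsg.Agent.S1054.result (F := F) chevE8 (by simp)
  obtain ⟨ℓ, f, q, j, f', hℓ, hch, hf, hf', hf0, hFc, hqd, hFq, hpq, hq2⟩ := exists_split (p := p) F hpF
  have : Fact ℓ.Prime := ⟨hℓ⟩
  have hout := Cfsg.Agent.S2125.result ℓ f hFc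
  have hv : padicValNat p (Nat.card (Cfsg.Out ↥(chevE8.group F))) = j :=
    hout1 (c := 1) (not_dvd_of_lt (by norm_num) (by omega)) hf hf' (by rw [one_mul]; exact hout)
  have hm : ∀ H : Subgroup ↥(chevE8.group F), H ≠ ⊤ → 2 * (q ^ p ^ j) ^ 29 ≤ H.index := fun H hH => by
    have := Cfsg.Agent.H934.HeisE8.two_mul_le hs H hH
    rwa [hFq] at this
  rcases Nat.eq_zero_or_pos j with hj | hj
  · subst hj
    simp only [pow_zero, pow_one] at hFq hm
    by_cases h57 : p = 5 ∨ p = 7
    · have hcd := card_dvd deg_E8 hFq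
      have hed := order_dvd hpq
      have he0 := order_pos hpq
      have h2q := fun h => le_of_order_le_two hpq hq2 h
      have key : ∀ (k W b B : ℕ), Nat.totient (orderOf (q : ZMod p)) * nm (orderOf (q : ZMod p))
          [2, 8, 12, 14, 18, 20, 24, 30] = k → p ^ wt p (orderOf (q : ZMod p)) [2, 8, 12, 14, 18, 20, 24, 30] = W →
          1 ≤ b → b ≤ q → B = 2 * k → B ≤ 29 → W ^ 2 * (b + 1) ^ B < 32 * b ^ 29 → Meet p ↥(chevE8.group F) :=
        fun k W b B a1 a2 a3 a4 a5 a6 a7 => small_case hp5 hT hpq hq2 (by simp) hcd hv hm a1 a2 a3 a4 a5 a6 a7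
      generalize orderOf (q : ZMod p) = e at *
      rcases h57 with rfl | rfl
      · have hele := Nat.le_of_dvd (by norm_num) hed
        interval_cases e
        · exact key 8 25 4 16 (by decide) (by decide +kernel) (by norm_num) (by have := h2q (by norm_num); omega)
            (by norm_num) (by norm_num) (by norm_num)
        · exact key 8 25 4 16 (by decide) (by decide +kernel) (by norm_num) (by have := h2q (by norm_num); omega)
            (by norm_num) (by norm_num) (by norm_num)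
        · exact absurd hed (by norm_num)
        · exact key 8 5 2 16 (by decide) (by decide +kernel) (by norm_num) hq2
            (by norm_num) (by norm_num) (by norm_num)
      · have hele := Nat.le_of_dvd (by norm_num) hed
        interval_cases e
        · exact key 8 7 6 16 (by decide) (by decide +kernel) (by norm_num) (by have := h2q (by norm_num); omega)
            (by norm_num) (by norm_num) (by norm_num)
        · exact key 8 7 6 16 (by decide) (by decide +kernel) (by norm_num) (by have := h2q (by norm_num); omega)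
            (by norm_num) (by norm_num) (by norm_num)
        · exact key 8 1 2 16 (by decide) (by decide +kernel) (by norm_num) hq2
            (by norm_num) (by norm_num) (by norm_num)
        · exact absurd hed (by norm_num)
        · exact absurd hed (by norm_num)
        · exact key 8 1 2 16 (by decide) (by decide +kernel) (by norm_num) hq2
            (by norm_num) (by norm_num) (by norm_num)
    · exact meet_of_comm_sub hT (not_dvd_of_v Nat.card_pos.ne' hv)
        (fun Q hQ => deg_E8.comm (fun k hk => ndvd_of [2, 3, 5, 7] (by decide) (by simp; omega) k hk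
          (by fin_cases hk <;> norm_num)) hpF Q hQ)
  · exact big_case (N := 120) (M := 29) (l := 8) (W := 175) (L := 30) (ds := [2, 8, 12, 14, 18, 20, 24, 30]) hp5 hT
      hj hpq hq2 (by decide) (card_dvd deg_E8 hFq) hv hm (by decide) (a := 14) (b := 5) (by norm_num) (by norm_num)
      (by norm_num) (by norm_num) (by norm_num)

/-- `E₆`, all but `p = 5 ∣ q - 1`, `5 ∤ f`. -/
theorem cross_E6_of {F : Type} [Field F] [Fintype F] (hp5 : 5 ≤ p)
    (hpF : ¬ p ∣ Fintype.card F) (hspec : p = 5 → 5 ∣ Fintype.card F - 1 →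
      ¬ p ∣ Nat.card (Cfsg.Out ↥(chevE6.group F)) → Meet p ↥(chevE6.group F)) : Meet p ↥(chevE6.group F) := by
  classical
  have : Finite (GL chevE6.Idx F) := inferInstance
  obtain ⟨hs, hT⟩ := Cfsg.Agent.S1054.result (F := F) chevE6 (by simp)
  obtain ⟨ℓ, f, q, j, f', hℓ, hch, hf, hf', hf0, hFc, hqd, hFq, hpq, hq2⟩ := exists_split (p := p) F hpF
  have : Fact ℓ.Prime := ⟨hℓ⟩
  have hout := Cfsg.Agent.S2123.result ℓ f hFc
  have hv : padicValNat p (Nat.card (Cfsg.Out ↥(chevE6.group F))) = j := by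
    refine hout1 ?_ hf hf' hout
    have h3 : Nat.gcd 3 (ℓ ^ f - 1) ∣ 3 := Nat.gcd_dvd_left _ _
    intro hd
    have h6 : p ∣ 2 * 3 := hd.trans (Nat.mul_dvd_mul_left 2 h3)
    rcases (Nat.Prime.dvd_mul hp.out).1 h6 with h | h
    · exact not_dvd_of_lt (by norm_num) (by omega) h
    · exact not_dvd_of_lt (by norm_num) (by omega) h
  have hm : ∀ H : Subgroup ↥(chevE6.group F), H ≠ ⊤ → 2 * (q ^ p ^ j) ^ 11 ≤ H.index := fun H hH => by
    have := Cfsg.Agent.H934.HeisE6.two_mul_le hs H hH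
    rwa [hFq] at this
  rcases Nat.eq_zero_or_pos j with hj | hj
  · subst hj
    simp only [pow_zero, pow_one] at hFq hm
    by_cases h57 : p = 5
    · have hcd := card_dvd deg_E6 hFq
      have hed := order_dvd hpq
      have he0 := order_pos hpq
      have h2q := fun h => le_of_order_le_two hpq hq2 h
      have h1q : orderOf (q : ZMod p) = 1 → p ∣ q - 1 := fun h => by
        have := (dvd_iff_order (p := p) (q := q) (k := 1) (by omega)).2 (by rw [h])
        rwa [pow_one] at this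
      have key : ∀ (k W b B : ℕ), Nat.totient (orderOf (q : ZMod p)) * nm (orderOf (q : ZMod p))
          [2, 5, 6, 8, 9, 12] = k → p ^ wt p (orderOf (q : ZMod p)) [2, 5, 6, 8, 9, 12] = W →
          1 ≤ b → b ≤ q → B = 2 * k → B ≤ 11 → W ^ 2 * (b + 1) ^ B < 32 * b ^ 11 → Meet p ↥(chevE6.group F) :=
        fun k W b B a1 a2 a3 a4 a5 a6 a7 => small_case hp5 hT hpq hq2 (by simp) hcd hv hm a1 a2 a3 a4 a5 a6 a7
      generalize orderOf (q : ZMod p) = e at *
      subst h57
      have hele := Nat.le_of_dvd (by norm_num) hed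
      interval_cases e
      · refine hspec rfl ?_ (not_dvd_of_v Nat.card_pos.ne' hv)
        rw [hFq]
        exact h1q rfl
      · exact key 4 1 2 8 (by decide) (by decide +kernel) (by norm_num) hq2
            (by norm_num) (by norm_num) (by norm_num)
      · exact absurd hed (by norm_num)
      · exact key 4 1 2 8 (by decide) (by decide +kernel) (by norm_num) hq2
            (by norm_num) (by norm_num) (by norm_num)
    · exact meet_of_comm_sub hT (not_dvd_of_v Nat.card_pos.ne' hv)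
        (fun Q hQ => deg_E6.comm (fun k hk => ndvd_of [2, 3, 5] (by decide) (by simp; omega) k hk
          (by fin_cases hk <;> norm_num)) hpF Q hQ)
  · exact big_case (N := 36) (M := 11) (l := 6) (W := 5) (L := 12) (ds := [2, 5, 6, 8, 9, 12]) hp5 hT
      hj hpq hq2 (by decide) (card_dvd deg_E6 hFq) hv hm (by decide) (a := 7) (b := 4) (by norm_num) (by norm_num)
      (by norm_num) (by norm_num) (by norm_num)

end Cfsg.Agent.H172.SI
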